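import Cfsg.Agent.Omega.NO3S.SN.TwoQ.Mod
import Cfsg.Agent.Omega.NO3S.SN.TwoP.Five
import Cfsg.Agent.Omega.NO3S.SN2.Exact

/-!
# THEOREM TWO PAIRS (helper586, #20800 (4), (5); helper28 #21330 (5))

In the relative frame `Fr` there are no two pairs `{i, i'}`, `{k, k'}` of letters in `D` which are moved by `T`, if
`C_V(O₂(R)) ≤ D`, `A₀` does not over-offend on `E_j / (E₁ ∩ E₂)` (`E_j = D ⟨z_j ^ R⟩`) and `C_{O₂(R)}(V)` does not
centralise `E₁`.
-/

set_option autoImplicit false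
set_option linter.unusedSectionVars false

namespace Cfsg.Agent.Omega.NO3S.SN.TwoQ

open Subgroup Cfsg Cfsg.Agent.PLocal.ThompsonJ Cfsg.Agent.ZN Cfsg.Agent.ZN.ChoiceBase
open Cfsg.Agent.ZN.ChoiceSit Cfsg.Agent.PLocal.ElemAbSup
open Cfsg.Agent.Omega.MinPar
open Cfsg.Agent.Omega.S5.Def Cfsg.Agent.Omega.S5.Syl Cfsg.Agent.Omega.S5.Pair
open Cfsg.Agent.Omega.NSix.Base Cfsg.Agent.Omega.NSix.Basic
open Cfsg.Agent.Omega.SQ1.Bau (mem_AA_of_comm elem_comm elem_sq mem_sup_comm card_sup_comm)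
open Cfsg.Agent.Omega.NSix.CaseJ.Base Cfsg.Agent.Omega.NSix.CaseJ.Exact
open Cfsg.Agent.Omega.NSix.CaseJ.LemQ
open Cfsg.Agent.Omega.NO3S.SN.TwoP (zero_ne_last card_le_AA side_norm sylQ two_cosets Q_le_cz cz_of_acts jjQ_conj
  oddGen_sup Mod D_le_Mod conj_mem_Mod mem_Mod Mod_le Mod_conj qf qf_mul qf_eq_zero comm_prod comm_iff count2 split2)

universe u

variable {G : Type u} [Group G] [Finite G] {S : Sylow 2 G} {P : Subgroup G} {m : ℕ}
  {ε : (Fin (2 ^ m + 1) → ZMod 2) → G} {U : Subgroup G}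

/-- Sums which avoid the letter `0`. -/
theorem ne_of_zero (h : NSix.CaseJ.Base.Hyp S P ε) {y : Fin (2 ^ m + 1) → ZMod 2} (h0 : y 0 = 0)
    {a : Fin (2 ^ m + 1)} (ha : y a = 1) : ε y ≠ 1 := by
  intro h1
  rcases (h.ev.ker y).1 h1 with h2 | h2
  · rw [h2] at ha
    exact zero_ne_one ha
  · rw [h2] at h0
    exact one_ne_zero h0

namespace Fr

variable {M₀ D T R : Subgroup G} (f : Fr S P ε U M₀ D T R)
include f

/-- the letters of a pair in `D` whose `z_i` is not in `D` are not `0` -/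
theorem nz {j j' : Fin (2 ^ m + 1)} (h1 : rr ε j j' ∈ D) (h2 : zz ε j ∉ D) : j ≠ 0 ∧ j' ≠ 0 := by
  refine ⟨fun h4 => h2 (h4 ▸ f.z_mem), fun h4 => h2 ?_⟩
  rw [h4] at h1
  have h5 := D.mul_mem h1 f.z_mem
  have h6 : rr ε j 0 * zz ε 0 = zz ε j := by
    change zz ε j * zz ε 0 * zz ε 0 = zz ε j
    rw [mul_assoc, zz_sq f.h.ev, mul_one]
  rwa [h6] at h5

/-- **(4), (5).** -/
theorem five {i i' k k' : Fin (2 ^ m + 1)} (hii : i ≠ i') (hkk : k ≠ k') (hik : i ≠ k) (hik' : i ≠ k')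
    (hi'k : i' ≠ k) (hi'k' : i' ≠ k') (hx : rr ε i i' ∈ D) (hy : rr ε k k' ∈ D) (hi : zz ε i ∉ D)
    (hk : zz ε k ∉ D) {A : Subgroup G} (hA : Ex P ε i k A)
    (H1 : ∀ v ∈ zl (S : Subgroup G) P, (∀ b ∈ o2 R, b * v = v * b) → v ∈ D)
    {F₁ F₂ : Subgroup G} {κ : ℕ}
    (hF1 : ∀ e, e ∈ F₁ ↔ e ∈ Mod D R (zz ε i) ∧ ∀ b ∈ A ⊓ centralizer (zl (S : Subgroup G) P : Set G),
      b * e * b⁻¹ * e⁻¹ ∈ Mod D R (zz ε i) ⊓ Mod D R (zz ε k))
    (hF2 : ∀ e, e ∈ F₂ ↔ e ∈ Mod D R (zz ε k) ∧ ∀ b ∈ A ⊓ centralizer (zl (S : Subgroup G) P : Set G),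
      b * e * b⁻¹ * e⁻¹ ∈ Mod D R (zz ε i) ⊓ Mod D R (zz ε k))
    (hκ : κ * Nat.card ↥((A ⊓ centralizer (zl (S : Subgroup G) P : Set G)) ⊓ o2 R) =
      Nat.card ↥(A ⊓ centralizer (zl (S : Subgroup G) P : Set G)))
    (k1 : κ * Nat.card F₁ ≤ Nat.card (Mod D R (zz ε i))) (k2 : κ * Nat.card F₂ ≤ Nat.card (Mod D R (zz ε k)))
    (H3 : ∃ e ∈ Mod D R (zz ε i), ∃ q ∈ o2 P ⊓ o2 R, q * e ≠ e * q) : False := by
  classical
  obtain ⟨ni, ni'⟩ := f.nz hx hi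
  obtain ⟨nk, nk'⟩ := f.nz hy hk
  have h3 := f.h.three
  obtain ⟨V, hV⟩ : ∃ V, V = zl (S : Subgroup G) P := ⟨_, rfl⟩
  obtain ⟨x, hxd⟩ : ∃ x, x = rr ε i i' := ⟨_, rfl⟩
  obtain ⟨y, hyd⟩ : ∃ y, y = rr ε k k' := ⟨_, rfl⟩
  set E₁ := Mod D R (zz ε i) with hE₁
  set E₂ := Mod D R (zz ε k) with hE₂
  set A0 := A ⊓ centralizer (zl (S : Subgroup G) P : Set G) with hA0
  set B₁ := A0 ⊓ o2 R with hB₁
  obtain ⟨a, haA, haσ⟩ := hA.ex
  have hVW : V ≤ U := hV ▸ f.VU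
  have hE1W : E₁ ≤ U := f.Mod_U (f.VU (zz_mem f.h.ev i))
  have hE2W : E₂ ≤ U := f.Mod_U (f.VU (zz_mem f.h.ev k))
  set E := V ⊔ (E₁ ⊔ E₂) with hE
  have hEW : E ≤ U := sup_le hVW (sup_le hE1W hE2W)
  have hA0Q : A0 ≤ o2 P := SN2.Exact.le_Q f.h hA
  have hA0T : A0 ≤ T := hA0Q.trans f.QT
  have hA0R : A0 ≤ R := hA0T.trans f.TR
  have hA0V : ∀ b ∈ A0, ∀ v ∈ V, b * v = v * b := fun b hb v hv => f.h.VcQ (hA0Q hb) (hV ▸ hv)
  have hxD : x ∈ D := hxd ▸ hx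
  have hyD : y ∈ D := hyd ▸ hy
  have hxx : x * x = 1 := hxd ▸ rr_sq f.h.ev i i'
  have hyy : y * y = 1 := hyd ▸ rr_sq f.h.ev k k'
  have hxy : x * y = y * x := f.hU.comm (f.DU hxD) (f.DU hyD)
  have hx1 : x ≠ 1 := hxd ▸ rr_ne_one f.h.ev h3 hii
  have hy1 : y ≠ 1 := hyd ▸ rr_ne_one f.h.ev h3 hkk
  have hne : x ≠ y := by
    rw [hxd, hyd]
    exact NSix.CaseJ.Fus.rr_ne f.h.ev f.h.five hii hik.symm hik'.symm
  -- nonzero letters
  have nz : ∀ {j j' : Fin (2 ^ m + 1)}, rr ε j j' ∈ D → zz ε j ∉ D → j ≠ 0 ∧ j' ≠ 0 := by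
    intro j j' h1 h2
    refine ⟨fun h4 => h2 (h4 ▸ f.z_mem), fun h4 => h2 ?_⟩
    rw [h4] at h1
    have h5 := D.mul_mem h1 f.z_mem
    have h6 : rr ε j 0 * zz ε 0 = zz ε j := by
      change zz ε j * zz ε 0 * zz ε 0 = zz ε j
      rw [mul_assoc, zz_sq f.h.ev, mul_one]
    rwa [h6] at h5
  obtain ⟨hi0, hi'0⟩ := nz hx hi
  obtain ⟨hk0, hk'0⟩ := nz hy hk
  have haz : a ∈ centralizer ({zz ε 0} : Set G) :=
    cz_of_acts haσ (Equiv.swap_apply_of_ne_of_ne hi0.symm hk0.symm)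
  have haP := hA.AP haA
  -- commutators
  have cE1 : ∀ b ∈ o2 R, ∀ e ∈ E₁, b * e * b⁻¹ * e⁻¹ = 1 ∨ b * e * b⁻¹ * e⁻¹ = x := fun b hb e he =>
    f.comm_Mod (f.VU (zz_mem f.h.ev i)) hxD (fun t ht => hxd ▸ f.comm_zz hii hx ht) hb he
  have cE2 : ∀ b ∈ o2 R, ∀ e ∈ E₂, b * e * b⁻¹ * e⁻¹ = 1 ∨ b * e * b⁻¹ * e⁻¹ = y := fun b hb e he =>
    f.comm_Mod (f.VU (zz_mem f.h.ev k)) hyD (fun t ht => hyd ▸ f.comm_zz hkk hy ht) hb he
  have hmE : ∀ e ∈ E, ∃ v ∈ V, ∃ e₁ ∈ E₁, ∃ e₂ ∈ E₂, e = v * (e₁ * e₂) := by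
    intro e he
    obtain ⟨v, hv, w, hw, rfl⟩ := mem_sup_comm (fun x hx y hy => f.hU.comm (hVW hx) (sup_le hE1W hE2W hy)) he
    obtain ⟨e₁, he₁, e₂, he₂, rfl⟩ := mem_sup_comm (fun x hx y hy => f.hU.comm (hE1W hx) (hE2W hy)) hw
    exact ⟨v, hv, e₁, he₁, e₂, he₂, rfl⟩
  have cprod : ∀ b ∈ R, ∀ e ∈ U, ∀ e' ∈ U,
      b * (e * e') * b⁻¹ * (e * e')⁻¹ = (b * e * b⁻¹ * e⁻¹) * (b * e' * b⁻¹ * e'⁻¹) := by
    intro b hb e he e' he'
    exact comm_prod (f.hU.comm he (mul_mem (f.hU.conj (f.R_cz hb) he') (inv_mem he')))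
  have cE : ∀ b ∈ B₁, ∀ e ∈ E, b * e * b⁻¹ * e⁻¹ = 1 ∨ b * e * b⁻¹ * e⁻¹ = x ∨ b * e * b⁻¹ * e⁻¹ = y ∨
      b * e * b⁻¹ * e⁻¹ = x * y := by
    intro b hb e he
    obtain ⟨v, hv, e₁, he₁, e₂, he₂, rfl⟩ := hmE e he
    have hbR := hA0R hb.1
    rw [cprod b hbR v (hVW hv) _ (mul_mem (hE1W he₁) (hE2W he₂)), cprod b hbR e₁ (hE1W he₁) e₂ (hE2W he₂),
      comm_iff.2 (hA0V b hb.1 v hv), one_mul]
    rcases cE1 b hb.2 e₁ he₁ with h4 | h4 <;> rcases cE2 b hb.2 e₂ he₂ with h5 | h5 <;> rw [h4, h5]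
    · left; rw [one_mul]
    · right; right; left; rw [one_mul]
    · right; left; rw [mul_one]
    · right; right; right; rfl
  have hcD : ∀ b ∈ B₁, ∀ e ∈ E, b * e * b⁻¹ * e⁻¹ ∈ D := by
    intro b hb e he
    rcases cE b hb e he with h4 | h4 | h4 | h4 <;> rw [h4]
    · exact one_mem _
    · exact hxD
    · exact hyD
    · exact mul_mem hxD hyD
  -- `A₀` normalises `E₁`, `E₂`, `E`
  have nE1 : ∀ b ∈ A0, ∀ e ∈ E₁, b * e * b⁻¹ ∈ E₁ := fun b hb e he => f.Mod_norm (hA0R hb) he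
  have nE2 : ∀ b ∈ A0, ∀ e ∈ E₂, b * e * b⁻¹ ∈ E₂ := fun b hb e he => f.Mod_norm (hA0R hb) he
  have hE1E : E₁ ≤ E := le_sup_left.trans le_sup_right
  have hE2E : E₂ ≤ E := le_sup_right.trans le_sup_right
  have hVE : V ≤ E := le_sup_left
  -- centralisers lie in `O`
  have hcO : ∀ b ∈ A0, (∀ e ∈ E, b * e = e * b) → b ∈ B₁ := by
    intro b hb hbe
    refine ⟨hb, ?_⟩
    refine f.mem_O (M := E₁) (fun r hr e he => f.Mod_norm hr he) (mem_Mod _ _ _) (zz_mem f.h.ev i) hi (hA0T hb) ?_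
    intro e he
    rw [comm_iff.2 (hbe e (hE1E he))]
    exact one_mem _
  -- the conjugates of `x`, `y`, `x y` by `a`
  have hxa : a * x * a⁻¹ = rr ε k i' := by
    rw [hxd, rr_conj haσ, Equiv.swap_apply_left, Equiv.swap_apply_of_ne_of_ne hii.symm hi'k]
  have hya : a * y * a⁻¹ = rr ε i k' := by
    rw [hyd, rr_conj haσ, Equiv.swap_apply_right, Equiv.swap_apply_of_ne_of_ne hik'.symm hkk.symm]
  have hxya : a * (x * y) * a⁻¹ = x * y := by
    have e1 : a * (x * y) * a⁻¹ = (a * x * a⁻¹) * (a * y * a⁻¹) := by group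
    rw [e1, hxa, hya, hxd, hyd]
    change zz ε k * zz ε i' * (zz ε i * zz ε k') = zz ε i * zz ε i' * (zz ε k * zz ε k')
    have c1 := zz_comm f.h.ev k i'
    have c2 := zz_comm f.h.ev k i
    have c3 := zz_comm f.h.ev i i'
    calc zz ε k * zz ε i' * (zz ε i * zz ε k') = zz ε i' * (zz ε k * zz ε i) * zz ε k' := by
          rw [c1]; group
      _ = zz ε i' * zz ε i * zz ε k * zz ε k' := by rw [c2]; group
      _ = _ := by rw [← c3]; group
  -- the count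
  have hel : IsElementaryAbelian 2 (E ⊔ cj a E : Subgroup G) :=
    isElementaryAbelian_mono f.hU.el (sup_le hEW (by
      rintro _ ⟨e, he, rfl⟩
      exact f.hU.conj haz (hEW he)))
  have hcount := count2 (B := A0) (B₁ := B₁) (E := E) (U := U) (a := a) hEW
    (fun e he => f.hU.conj haz (hEW he)) (fun u hu v hv => f.hU.comm hu hv)
    (fun b hb => elem_comm hA.elem a haA b hb.1) inf_le_left hcO
    (fun e b => qf x y (b * e * b⁻¹ * e⁻¹))
    (by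
      intro e he e' he' b hb
      rw [cprod b (hA0R hb.1) e (hEW he) e' (hEW he')]
      exact qf_mul hxx hyy hxy hx1 hy1 hne (cE b hb e he) (cE b hb e' he'))
    (by
      intro e he b hb b' hb'
      have e1 : (b * b') * e * (b * b')⁻¹ * e⁻¹ = b * (b' * e * b'⁻¹ * e⁻¹) * b⁻¹ * (b * e * b⁻¹ * e⁻¹) := by group
      rw [e1, f.conj_D (hA0R hb.1) (hcD b' hb' e he), add_comm]
      exact qf_mul hxx hyy hxy hx1 hy1 hne (cE b' hb' e he) (cE b hb e he))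
    (by
      intro b hb h4
      have h5 : ∀ e ∈ E₁, b * e = e * b := by
        intro e he
        have h6 := qf_eq_zero.1 (h4 e (hE1E he))
        rw [← comm_iff]
        rcases cE1 b hb.2 e he with h7 | h7
        · exact h7
        · exfalso
          rw [h7] at h6
          rcases h6 with h6 | h6
          · exact hx1 h6
          · exact hy1 (left_eq_mul.1 h6)
      have h6 : ∀ e ∈ E₂, b * e = e * b := by
        intro e he
        have h6 := qf_eq_zero.1 (h4 e (hE2E he))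
        rw [← comm_iff]
        rcases cE2 b hb.2 e he with h7 | h7
        · exact h7
        · exfalso
          rw [h7] at h6
          rcases h6 with h6 | h6
          · exact hy1 h6
          · exact hx1 (right_eq_mul.1 h6)
      intro e he
      obtain ⟨v, hv, e₁, he₁, e₂, he₂, rfl⟩ := hmE e he
      have c1 : Commute b v := hA0V b hb.1 v hv
      have c2 : Commute b e₁ := h5 e₁ he₁
      have c3 : Commute b e₂ := h6 e₂ he₂
      exact (c1.mul_right (c2.mul_right c3)).eq)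
    (by
      intro e he e' he' b hb h4
      rw [qf_eq_zero]
      have n1 : ∀ {p q : Fin (2 ^ m + 1)}, p ≠ q → ∀ {s t : Fin (2 ^ m + 1)}, s ≠ p → t ≠ p →
          rr ε p q ≠ rr ε s t := fun {p q} hpq {s t} hs ht => NSix.CaseJ.Fus.rr_ne f.h.ev f.h.five hpq hs ht
      have h5 : b * e * b⁻¹ * e⁻¹ = 1 ∨ b * e * b⁻¹ * e⁻¹ = rr ε k i' ∨ b * e * b⁻¹ * e⁻¹ = rr ε i k' ∨
          b * e * b⁻¹ * e⁻¹ = x * y := by
        rw [h4]
        rcases cE b hb e' he' with h6 | h6 | h6 | h6 <;> rw [h6]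
        · left; group
        · right; left; exact hxa
        · right; right; left; exact hya
        · right; right; right; exact hxya
      rcases cE b hb e he with h6 | h6 | h6 | h6
      · exact Or.inl h6
      · exfalso
        rw [h6] at h5
        rcases h5 with h7 | h7 | h7 | h7
        · exact hx1 h7
        · rw [hxd] at h7
          exact n1 hii hik.symm hii.symm h7
        · rw [hxd, rr_symm f.h.ev i i'] at h7
          exact n1 hii.symm hii hi'k'.symm h7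
        · exact hy1 (left_eq_mul.1 h7)
      · exfalso
        rw [h6] at h5
        rcases h5 with h7 | h7 | h7 | h7
        · exact hy1 h7
        · rw [hyd, rr_symm f.h.ev k k'] at h7
          exact n1 hkk.symm hkk hi'k' h7
        · rw [hyd] at h7
          exact n1 hkk hik hkk.symm h7
        · exact hx1 (right_eq_mul.1 h7)
      · exact Or.inr h6)
    (SN2.Exact.count0 f.h hA hik hel (hV ▸ (hVE.trans le_sup_left)))
  -- the lower bound
  have hlow := split2 (B := A0) (E₁ := E₁) (E₂ := E₂) (V := V) (U := U) (k := κ)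
    (fun u hu v hv => f.hU.comm hu hv) hVW hE1W hE2W
    (fun v hv => mem_centralizer_iff.2 fun b hb => hA0V b hb v hv) nE1 nE2 hF1 hF2 k1 k2
  rw [← hE] at hlow
  have hB1p : 0 < Nat.card B₁ := Nat.card_pos
  have hCp : 0 < Nat.card ↥(E ⊓ centralizer (A0 : Set G)) := Nat.card_pos
  have hA0p : 0 < Nat.card A0 := Nat.card_pos
  have hκ0 : 0 < κ := by
    rcases Nat.eq_zero_or_pos κ with h4 | h4
    · rw [h4, zero_mul] at hκ
      omega
    · exact h4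
  have r1 : Nat.card E ≤ κ * Nat.card ↥(E ⊓ centralizer (A0 : Set G)) := by
    have h4 : Nat.card E * Nat.card B₁ ≤ (κ * Nat.card ↥(E ⊓ centralizer (A0 : Set G))) * Nat.card B₁ := by
      calc Nat.card E * Nat.card B₁ ≤ Nat.card A0 * Nat.card ↥(E ⊓ centralizer (A0 : Set G)) := hcount
        _ = (κ * Nat.card B₁) * Nat.card ↥(E ⊓ centralizer (A0 : Set G)) := by rw [hκ]
        _ = _ := by ring
    exact Nat.le_of_mul_le_mul_right h4 hB1p
  have hκ1 : κ = 1 := by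
    have h4 : κ * κ * Nat.card ↥(E ⊓ centralizer (A0 : Set G)) ≤ κ * Nat.card ↥(E ⊓ centralizer (A0 : Set G)) :=
      hlow.trans r1
    have h5 : κ * κ ≤ κ := Nat.le_of_mul_le_mul_right h4 hCp
    nlinarith
  rw [hκ1, one_mul] at r1 hκ
  have hEc : E ≤ centralizer (A0 : Set G) := by
    have h4 : E ⊓ centralizer (A0 : Set G) = E := Subgroup.eq_of_le_of_card_ge inf_le_left r1
    rw [← h4]
    exact inf_le_right
  -- the end
  obtain ⟨e, he, q, hq, hqe⟩ := H3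
  have hqx : q * e * q⁻¹ * e⁻¹ = x := (cE1 q hq.2 e he).resolve_left fun h4 => hqe (comm_iff.1 h4)
  have heE : e ∈ E := hE1E he
  have h4 := SN2.Exact.act f.h hA hik (isElementaryAbelian_mono f.hU.el hEW) (hV ▸ hVE) heE
    (fun b hb => mem_centralizer_iff.1 (hEc heE) b hb) haA
  obtain ⟨v, hv, hev⟩ : ∃ v ∈ V, a * e * a⁻¹ = e * v := by
    rcases h4 with h5 | h5
    · exact ⟨1, one_mem _, by rw [mul_one]; exact h5⟩
    · exact ⟨rr ε i k, hV ▸ rr_mem f.h.ev i k, h5⟩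
  obtain ⟨q', hq'⟩ : ∃ q', q' = a * q * a⁻¹ := ⟨_, rfl⟩
  have hq'Q : q' ∈ o2 P := hq' ▸ f.h.Qn haP hq.1
  have h5 : q' * (e * v) * q'⁻¹ * (e * v)⁻¹ = rr ε k i' := by
    rw [← hxa, ← hqx, ← hev, hq']
    group
  have h6 : q' * e * q'⁻¹ * e⁻¹ = rr ε k i' := by
    rw [← h5]
    have h7 : q' * v * q'⁻¹ = v := by rw [f.h.VcQ hq'Q (hV ▸ hv), mul_inv_cancel_right]
    calc q' * e * q'⁻¹ * e⁻¹ = q' * e * q'⁻¹ * v * v⁻¹ * e⁻¹ := by group
      _ = q' * e * q'⁻¹ * (q' * v * q'⁻¹) * v⁻¹ * e⁻¹ := by rw [h7]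
      _ = _ := by group
  have hrE : rr ε k i' ∈ E₁ := by
    rw [← h6]
    exact mul_mem (f.Mod_norm (f.TR (f.QT hq'Q)) he) (inv_mem he)
  apply hk
  refine H1 _ (zz_mem f.h.ev k) fun c hc => ?_
  obtain ⟨σ, hσ⟩ := f.acts_of (f.T_le (f.OT hc))
  have hcC := f.syl.1 (f.OT hc)
  have hσk := f.perm_of hcC hσ hkk hy
  have hσi' : σ i' = i' ∨ σ i' = i := f.perm_of hcC hσ hii.symm (by rw [rr_symm f.h.ev]; exact hx)
  rcases hσk with h7 | h7
  · have h8 := zz_conj hσ k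
    rw [h7] at h8
    exact comm_of_conj h8
  · exfalso
    have h8 := cE1 c hc _ hrE
    rw [rr_conj hσ, h7, rr_inv f.h.ev] at h8
    have nσ : σ i' ≠ 0 := by
      rcases hσi' with h9 | h9 <;> rw [h9]
      · exact ni'
      · exact ni
    -- `rr k' (σ i') * rr k i' ∈ {1, rr i i'}`
    have hs : ∀ a b c d : Fin (2 ^ m + 1), rr ε a b * rr ε c d =
        ε (Pi.single a 1 + Pi.single b 1 + (Pi.single c 1 + Pi.single d 1)) := by
      intro a b c d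
      rw [f.h.ev.add, ← rr_eq f.h.ev, ← rr_eq f.h.ev]
    rcases h8 with h8 | h8
    · rw [hs] at h8
      refine ne_of_zero f.h (a := k) ?_ ?_ h8
      · simp only [Pi.add_apply]
        rw [Pi.single_eq_of_ne nk'.symm, Pi.single_eq_of_ne nσ.symm, Pi.single_eq_of_ne nk.symm,
          Pi.single_eq_of_ne ni'.symm]
        rfl
      · simp only [Pi.add_apply]
        have n1 : k ≠ σ i' := by
          rcases hσi' with h9 | h9 <;> rw [h9]
          · exact hi'k.symm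
          · exact hik.symm
        rw [Pi.single_eq_of_ne hkk, Pi.single_eq_of_ne n1, Pi.single_eq_same, Pi.single_eq_of_ne hi'k.symm]
        rfl
    · rw [hs, hxd] at h8
      have h9 : ε (Pi.single k' 1 + Pi.single (σ i') 1 + (Pi.single k 1 + Pi.single i' 1) +
          (Pi.single i 1 + Pi.single i' 1)) = 1 := by
        rw [f.h.ev.add, h8, ← rr_eq f.h.ev, rr_sq f.h.ev]
      refine ne_of_zero f.h (a := k) ?_ ?_ h9
      · simp only [Pi.add_apply]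
        rw [Pi.single_eq_of_ne nk'.symm, Pi.single_eq_of_ne nσ.symm, Pi.single_eq_of_ne nk.symm,
          Pi.single_eq_of_ne ni'.symm, Pi.single_eq_of_ne ni.symm]
        rfl
      · simp only [Pi.add_apply]
        have n1 : k ≠ σ i' := by
          rcases hσi' with h9 | h9 <;> rw [h9]
          · exact hi'k.symm
          · exact hik.symm
        rw [Pi.single_eq_of_ne hkk, Pi.single_eq_of_ne n1, Pi.single_eq_same, Pi.single_eq_of_ne hi'k.symm,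
          Pi.single_eq_of_ne hik.symm]
        rfl

end Fr

end Cfsg.Agent.Omega.NO3S.SN.TwoQ
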