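import Cfsg.Agent.Omega.NO3S.SN.TwoQ.Five
import Cfsg.Agent.Omega.NO3S.SN.TwoP.FiveOut
import Cfsg.Agent.Omega.NO3S.SN2.FF.Def

/-!
# THEOREM TWO PAIRS (helper28 #21330 (5)) from the output of the FF step (helper421)

`SN2.FF.Out F V Q T R M₀ D E (D ⟨z_i ^ R⟩) z_i Rel` for two pairs `{i, i'}`, `{k, k'}` of letters in `D`, all atoms of
`D` of size at most two (`[V, C_L(D)] ≤ D`): contradiction.

* `Fr.out_inter` : the `R`-invariant subgroups of `M` which are centralised by `O₂(R)` lie in `D`;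
* `Fr.out_index` : `|A₀ : A₀ ∩ O₂(R)| |{e ∈ M : [e, A₀] ≤ D}| ≤ |M|`;
* `Fr.out_two` : `|F| = 2`;
* `Fr.out_move` : `C_{O₂(R)}(V)` does not centralise `M`;
* `Fr.five_out`.
-/

set_option autoImplicit false
set_option linter.unusedSectionVars false

namespace Cfsg.Agent.Omega.NO3S.SN.TwoQ

open Subgroup Cfsg Cfsg.Agent.PLocal.ThompsonJ Cfsg.Agent.ZN Cfsg.Agent.ZN.ChoiceBase
open Cfsg.Agent.ZN.ChoiceSit Cfsg.Agent.PLocal.ElemAbSup
open Cfsg.Agent.Omega.MinPar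
open Cfsg.Agent.Omega.S5.Def Cfsg.Agent.Omega.S5.Syl Cfsg.Agent.Omega.S5.Pair
open Cfsg.Agent.Omega.NSix.Base Cfsg.Agent.Omega.NSix.Basic
open Cfsg.Agent.Omega.NSix.CaseJ.Base Cfsg.Agent.Omega.NSix.CaseJ.Exact
open Cfsg.Agent.Omega.NSix.CaseJ.LemQ
open Cfsg.Agent.Omega.NO3S.SN.TwoP (zero_ne_last card_le_AA side_norm sylQ two_cosets Q_le_cz cz_of_acts jjQ_conj
  oddGen_sup Mod D_le_Mod conj_mem_Mod mem_Mod Mod_le Mod_conj qf qf_mul qf_eq_zero comm_prod comm_iff count2 split2 relIndex_mul_card' relIndex_mul)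
open Cfsg.Agent.Omega.NO3S.SN2.FF (Out)
open Cfsg.Agent.Omega.NatPair (ap ap_zero' ap_one' exists_ap ext2)
open Cfsg.Agent.Lib.SL2Mat

universe u

variable {G : Type u} [Group G] [Finite G] {S : Sylow 2 G} {P : Subgroup G} {m : ℕ}
  {ε : (Fin (2 ^ m + 1) → ZMod 2) → G} {U : Subgroup G}

namespace Fr

variable {M₀ D T R : Subgroup G} (f : Fr S P ε U M₀ D T R)
include f

section out

variable {F : Type} [Field F] [Finite F] {y₀ : G} {E : Subgroup G} {Rel : Set (Subgroup G)}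
  (o : Out F (zl (S : Subgroup G) P) (o2 P) T R M₀ D E (Mod D R y₀) y₀ Rel)
  (hwV : y₀ ∈ zl (S : Subgroup G) P) (hi : y₀ ∉ D)
include o hwV hi

omit hwV hi in
theorem out_eq {v w : G} (hv : v ∈ Mod D R y₀) (hw : w ∈ Mod D R y₀) (h : o.e v = o.e w) :
    v⁻¹ * w ∈ D := by
  have h1 : o.e (v⁻¹ * w) + o.e v = o.e w := by
    rw [add_comm, ← o.mul v hv _ (mul_mem (inv_mem hv) hw), mul_inv_cancel_left]
  rw [h, add_eq_right] at h1
  exact (o.ker _ (mul_mem (inv_mem hv) hw)).1 h1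

omit hwV hi in
theorem out_D {v d : G} (hv : v ∈ Mod D R y₀) (hd : d ∈ D) : o.e (d * v) = o.e v := by
  rw [o.mul d (D_le_Mod _ _ _ hd) v hv, (o.ker d (D_le_Mod _ _ _ hd)).2 hd, zero_add]

omit hwV hi in
/-- commutators in `D` -/
theorem out_comm {v b : G} (hv : v ∈ Mod D R y₀) (hc : b * v * b⁻¹ * v⁻¹ ∈ D) :
    o.e (b * v * b⁻¹) = o.e v := by
  rw [← f.out_D o hv hc, inv_mul_cancel_right]

theorem out_inter (H1 : ∀ v ∈ zl (S : Subgroup G) P, (∀ b ∈ o2 R, b * v = v * b) → v ∈ D) {I : Subgroup G}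
    (hI : I ≤ Mod D R y₀) (hIR : ∀ r ∈ R, ∀ e ∈ I, r * e * r⁻¹ ∈ I) (hDI : D ≤ I)
    (hIO : ∀ e ∈ I, ∀ b ∈ o2 R, b * e = e * b) : I ≤ D := by
  intro e he
  by_contra heD
  have h1 : o.e e ≠ 0 := fun h0 => heD ((o.ker e (hI he)).1 h0)
  have h2 : o.e y₀ ≠ 0 := fun h0 => hi ((o.ker _ (mem_Mod _ _ _)).1 h0)
  obtain ⟨A, hA⟩ := exists_ap h1 h2
  obtain ⟨g, hg, hgA⟩ := o.lift A
  have h3 : o.e (g * e * g⁻¹) = o.e y₀ := by rw [hgA e (hI he), hA]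
  have h4 := f.out_eq o (hI (hIR g hg e he)) (mem_Mod _ _ _) h3
  have h5 : y₀ ∈ I := by
    have := I.mul_mem (hIR g hg e he) (hDI h4)
    rwa [mul_inv_cancel_left] at this
  exact hi (H1 _ hwV fun b hb => hIO _ h5 b hb)

omit hwV hi in
theorem out_index {B F₁ : Subgroup G} (hB : B ∈ Rel)
    (hF : ∀ e, e ∈ F₁ ↔ e ∈ Mod D R y₀ ∧ ∀ b ∈ B, b * e * b⁻¹ * e⁻¹ ∈ D) :
    (o2 R).relIndex B * Nat.card F₁ ≤ Nat.card (Mod D R y₀) := by
  by_cases hBO : B ≤ o2 R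
  · rw [relIndex_eq_one.2 hBO, one_mul]
    exact Subgroup.card_le_of_le fun e he => ((hF e).1 he).1
  · have h1 : F₁ ≤ zl (S : Subgroup G) P ⊓ Mod D R y₀ := by
      intro e he
      obtain ⟨heM, hec⟩ := (hF e).1 he
      refine ⟨(o.line e heM).2 ?_, heM⟩
      obtain ⟨b, hb, hb1⟩ := (o.root B hB hBO).2 1
      have h2 := f.out_comm o heM (hec b hb)
      rw [hb1 e heM] at h2
      have h3 := congrFun h2 0
      rw [ap_zero', up_00, up_01, one_mul, one_mul] at h3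
      exact add_eq_left.1 h3
    have h2 : D ≤ zl (S : Subgroup G) P ⊓ Mod D R y₀ := le_inf f.D_le (D_le_Mod _ _ _)
    have h3 := relIndex_mul_card' h2
    have h4 := relIndex_mul_card' (D_le_Mod D R y₀)
    rw [o.card] at h3
    rw [o.cardM] at h4
    rw [o.F1 B hB hBO, o.card, ← h4, pow_two, mul_assoc, h3]
    exact Nat.mul_le_mul_left _ (Subgroup.card_le_of_le h1)

/-- **`|F| = 2`** if all atoms of `D` have size at most two. -/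
theorem out_two (hE : ∃ B ∈ Rel, ¬ B ≤ o2 R) (hRT : ∀ B ∈ Rel, B ≤ T)
    (hV2 : ∀ g ∈ normalizer (zl (S : Subgroup G) P : Set G), g ∈ centralizer (D : Set G) →
      ∀ v ∈ zl (S : Subgroup G) P, g * v * g⁻¹ * v⁻¹ ∈ D) (c : F) (hc : c ≠ 0) : c = 1 := by
  set M := Mod D R y₀ with hM
  obtain ⟨d, hd, hdA⟩ := o.lift (dg c hc)
  obtain ⟨B, hB, hBO⟩ := hE
  have hRM : ∀ r ∈ R, ∀ e ∈ M, r * e * r⁻¹ ∈ M := fun r hr e he => f.Mod_norm hr he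
  -- the kernel
  let K : Subgroup G :=
    { carrier := {r | r ∈ R ∧ ∀ e ∈ M, r * e * r⁻¹ * e⁻¹ ∈ D}
      one_mem' := ⟨one_mem _, fun e _ => by
        have : (1 : G) * e * 1⁻¹ * e⁻¹ = 1 := by group
        rw [this]; exact one_mem _⟩
      mul_mem' := by
        rintro r s ⟨hr, h2⟩ ⟨hs, h3⟩
        refine ⟨mul_mem hr hs, fun e he => ?_⟩
        have h4 : (r * s) * e * (r * s)⁻¹ * e⁻¹ = r * (s * e * s⁻¹ * e⁻¹) * r⁻¹ * (r * e * r⁻¹ * e⁻¹) := by group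
        rw [h4, f.conj_D hr (h3 e he)]
        exact mul_mem (h3 e he) (h2 e he)
      inv_mem' := by
        rintro r ⟨hr, h2⟩
        refine ⟨inv_mem hr, fun e he => ?_⟩
        have h3 : r⁻¹ * e * r⁻¹⁻¹ ∈ M := hRM _ (inv_mem hr) e he
        have h4 := h2 _ h3
        have h5 : r * (r⁻¹ * e * r⁻¹⁻¹) * r⁻¹ * (r⁻¹ * e * r⁻¹⁻¹)⁻¹ = (r⁻¹ * e * r⁻¹⁻¹ * e⁻¹)⁻¹ := by group
        rw [h5] at h4
        have := inv_mem h4
        rwa [inv_inv] at this }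
  have hKR : K ≤ R := fun r hr => hr.1
  have hKn : ∀ r ∈ R, ∀ k ∈ K, r * k * r⁻¹ ∈ K := by
    intro r hr s hs
    refine ⟨R.mul_mem (R.mul_mem hr hs.1) (R.inv_mem hr), fun e he => ?_⟩
    have h3 : r⁻¹ * e * r⁻¹⁻¹ ∈ M := hRM _ (inv_mem hr) e he
    have h4 := hs.2 _ h3
    have h5 : r * s * r⁻¹ * e * (r * s * r⁻¹)⁻¹ * e⁻¹ =
        r * (s * (r⁻¹ * e * r⁻¹⁻¹) * s⁻¹ * (r⁻¹ * e * r⁻¹⁻¹)⁻¹) * r⁻¹ := by group
    rw [h5, f.conj_D hr h4]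
    exact h4
  have hTKn : T ≤ normalizer (K : Set G) := by
    intro t ht
    refine mem_normalizer_of_cj_le ?_
    rintro _ ⟨s, hs, rfl⟩
    exact hKn t (f.TR ht) s hs
  -- vectors of the line
  have hTv : ∀ g ∈ normalizer (zl (S : Subgroup G) P : Set G), g ∈ centralizer (D : Set G) →
      ∀ v ∈ M, v ∈ zl (S : Subgroup G) P → o.e (g * v * g⁻¹) = o.e v := fun g hg hgD v hvM hv =>
    f.out_comm o hvM (hV2 g hg hgD v hv)
  have hline : ∀ v ∈ M, v ∈ zl (S : Subgroup G) P → d * v * d⁻¹ ∈ M ∧ d * v * d⁻¹ ∈ zl (S : Subgroup G) P := by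
    intro v hvM hv
    have h1 := hRM d hd v hvM
    refine ⟨h1, (o.line _ h1).2 ?_⟩
    rw [hdA v hvM, ap_one', dg_10, dg_11, (o.line v hvM).1 hv]
    ring
  -- `[T, d] ≤ T K`
  have hTK : ∀ t ∈ T, t * d * t⁻¹ * d⁻¹ ∈ T ⊔ K := by
    intro t ht
    have htR := f.TR ht
    obtain ⟨A, hA⟩ := o.norm t htR d hd (dg c hc) hdA
    set w := t * d * t⁻¹ with hw
    have hwR : w ∈ R := R.mul_mem (R.mul_mem htR hd) (R.inv_mem htR)
    -- `w` and `d` agree on the line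
    have h1 : ∀ v ∈ M, v ∈ zl (S : Subgroup G) P → o.e (w * v * w⁻¹) = o.e (d * v * d⁻¹) := by
      intro v hvM hv
      have h2 : t⁻¹ * v * t⁻¹⁻¹ ∈ M := hRM _ (inv_mem htR) v hvM
      have h3 : t⁻¹ * v * t⁻¹⁻¹ ∈ zl (S : Subgroup G) P :=
        (mem_normalizer_iff.1 (f.T_le (inv_mem ht)) v).1 hv
      have h4 := hTv _ (f.T_le (inv_mem ht)) (f.syl.1 (inv_mem ht)) v hvM hv
      obtain ⟨h5, h6⟩ := hline _ h2 h3
      have h7 := hTv t (f.T_le ht) (f.syl.1 ht) _ h5 h6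
      have e1 : w * v * w⁻¹ = t * (d * (t⁻¹ * v * t⁻¹⁻¹) * d⁻¹) * t⁻¹ := by rw [hw]; group
      rw [e1, h7, hdA _ h2, h4, hdA v hvM]
    -- `A = up _ * dg c`
    obtain ⟨v₀, hv₀M, hv₀⟩ := o.surj ![1, 0]
    have hv₀V : v₀ ∈ zl (S : Subgroup G) P := (o.line v₀ hv₀M).2 (by rw [hv₀]; rfl)
    have h2 := h1 v₀ hv₀M hv₀V
    rw [hA v₀ hv₀M, hdA v₀ hv₀M, hv₀] at h2
    have a0 : ent A 0 0 = c := by
      have h3 := congrFun h2 0
      rw [ap_zero', ap_zero', dg_00, dg_01] at h3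
      simpa using h3
    have a1 : ent A 1 0 = 0 := by
      have h3 := congrFun h2 1
      rw [ap_one', ap_one', dg_10, dg_11] at h3
      simpa using h3
    have a2 : ent A 1 1 = c⁻¹ := by
      have h3 := det_eq A
      rw [a0, a1, mul_zero, sub_zero] at h3
      exact eq_inv_of_mul_eq_one_right h3
    -- the element `w d⁻¹`
    have h3 : ∀ v ∈ M, o.e ((w * d⁻¹) * v * (w * d⁻¹)⁻¹) = ap (up (ent A 0 1 * c)) (o.e v) := by
      intro v hv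
      have h4 : d⁻¹ * v * d⁻¹⁻¹ ∈ M := hRM _ (inv_mem hd) v hv
      have h5 : o.e v = ap (dg c hc) (o.e (d⁻¹ * v * d⁻¹⁻¹)) := by
        rw [← hdA _ h4]; congr 1; group
      have e1 : (w * d⁻¹) * v * (w * d⁻¹)⁻¹ = w * (d⁻¹ * v * d⁻¹⁻¹) * w⁻¹ := by group
      rw [e1, hA _ h4, h5]
      apply ext2
      · rw [ap_zero', ap_zero', ap_zero', ap_one', a0, up_00, up_01, dg_00, dg_01, dg_10, dg_11]
        field_simp
        ring
      · rw [ap_one', ap_one', ap_one', a1, a2, up_10, up_11, dg_10, dg_11]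
        ring
    obtain ⟨b, hb, hb1⟩ := (o.root B hB hBO).2 (ent A 0 1 * c)
    have hbT := hRT B hB hb
    have h4 : b⁻¹ * (w * d⁻¹) ∈ K := by
      have hbR := f.TR hbT
      refine ⟨R.mul_mem (R.inv_mem hbR) (R.mul_mem hwR (R.inv_mem hd)), fun e he => ?_⟩
      have h5 : (w * d⁻¹) * e * (w * d⁻¹)⁻¹ ∈ M := hRM _ (R.mul_mem hwR (R.inv_mem hd)) e he
      have h6 : b * e * b⁻¹ ∈ M := hRM _ hbR e he
      have h7 := f.out_eq o h6 h5 (by rw [h3 e he, hb1 e he])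
      have h8 := f.conj_D (inv_mem hbR) h7
      have h9 : b⁻¹ * (w * d⁻¹) * e * (b⁻¹ * (w * d⁻¹))⁻¹ * e⁻¹ =
          (e * b⁻¹ * ((b * e * b⁻¹)⁻¹ * ((w * d⁻¹) * e * (w * d⁻¹)⁻¹)) * b⁻¹⁻¹ * e⁻¹) := by group
      have h10 : e * b⁻¹ * ((b * e * b⁻¹)⁻¹ * ((w * d⁻¹) * e * (w * d⁻¹)⁻¹)) * b⁻¹⁻¹ * e⁻¹ =
          e * (b⁻¹ * ((b * e * b⁻¹)⁻¹ * ((w * d⁻¹) * e * (w * d⁻¹)⁻¹)) * b⁻¹⁻¹) * e⁻¹ := by group
      rw [h9, h10, h8]
      have h11 : ((b * e * b⁻¹)⁻¹ * ((w * d⁻¹) * e * (w * d⁻¹)⁻¹)) * e =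
          e * ((b * e * b⁻¹)⁻¹ * ((w * d⁻¹) * e * (w * d⁻¹)⁻¹)) :=
        f.hU.comm (f.DU h7) (f.Mod_U (f.VU hwV) he)
      rw [← h11, mul_inv_cancel_right]
      exact h7
    have h5 := (T ⊔ K).mul_mem (mem_sup_left (T := K) hbT) (mem_sup_right (S := T) h4)
    rwa [mul_inv_cancel_left] at h5
  -- Frattini
  have hTKR : T ⊔ K ≤ R := sup_le f.TR hKR
  have hsyl1 : Syl T (T ⊔ K) := ⟨le_sup_left, f.T2, fun Q' hQ' h2 hTQ => f.sylR.2.2 Q' (hQ'.trans hTKR) h2 hTQ⟩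
  have hdT : cj d T ≤ T ⊔ K := by
    rintro _ ⟨t, ht, rfl⟩
    change d * t * d⁻¹ ∈ T ⊔ K
    have h1 := hTK t⁻¹ (inv_mem ht)
    have h2 := (T ⊔ K).mul_mem (mem_sup_left (T := K) ht) h1
    have e1 : t * (t⁻¹ * d * t⁻¹⁻¹ * d⁻¹) = d * t * d⁻¹ := by group
    rwa [e1] at h2
  have hsyl2 : Syl (cj d T) (T ⊔ K) := by
    refine ⟨hdT, isPGroup_cj d f.T2, fun Q' hQ' h2 hTQ => ?_⟩
    have h1 : T ≤ cj d⁻¹ Q' := by
      have := cj_mono d⁻¹ hTQ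
      rwa [cj_inv_cj] at this
    have h3 : cj d⁻¹ Q' ≤ R := by
      rintro _ ⟨q, hq, rfl⟩
      exact R.mul_mem (R.mul_mem (R.inv_mem hd) (hTKR (hQ' hq))) (R.inv_mem (R.inv_mem hd))
    have h4 := f.sylR.2.2 _ h3 (isPGroup_cj _ h2) h1
    rw [← h4, cj_cj_inv]
  obtain ⟨g, hg, hgT⟩ := syl_conj hsyl2 hsyl1
  rw [cj_cj] at hgT
  have hgd : g * d ∈ normalizer (zl (S : Subgroup G) P : Set G) :=
    f.normT (R.mul_mem (hTKR hg) hd) (mem_normalizer_iff_cj.2 hgT)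
  -- the action on the line
  have hzM := mem_Mod D R y₀
  have hzV := hwV
  have h1 := hTv _ hgd (f.RC (R.mul_mem (hTKR hg) hd)) _ hzM hzV
  have hgline : ∀ v ∈ M, v ∈ zl (S : Subgroup G) P → o.e (g * v * g⁻¹) = o.e v := by
    intro v hvM hv
    obtain ⟨t, ht, k, hk, rfl⟩ : ∃ t ∈ T, ∃ k ∈ K, g = t * k := by
      obtain ⟨t, ht, k, hk, e⟩ := SQ1.Bau.mem_sup_norm hTKn hg
      exact ⟨t, ht, k, hk, e⟩
    have e1 : (t * k) * v * (t * k)⁻¹ = (t * (k * v * k⁻¹ * v⁻¹) * t⁻¹) * (t * v * t⁻¹) := by group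
    rw [e1, f.conj_D (f.TR ht) (hk.2 v hvM), f.out_D o (hRM t (f.TR ht) v hvM) (hk.2 v hvM)]
    exact hTv t (f.T_le ht) (f.syl.1 ht) v hvM hv
  obtain ⟨h2, h3⟩ := hline _ hzM hzV
  have e1 : (g * d) * y₀ * (g * d)⁻¹ = g * (d * y₀ * d⁻¹) * g⁻¹ := by group
  rw [e1, hgline _ h2 h3, hdA _ hzM] at h1
  have h4 := congrFun h1 0
  rw [ap_zero', dg_00, dg_01, zero_mul, add_zero] at h4
  have h5 : o.e y₀ 0 ≠ 0 := by
    intro h0
    have h6 : o.e y₀ = 0 := ext2 h0 ((o.line _ hzM).1 hzV)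
    exact hi ((o.ker _ hzM).1 h6)
  exact mul_eq_right₀ h5 |>.1 h4

/-- `C_{O₂(R)}(V)` does not centralise `M`. -/
theorem out_move (hE : ∃ B ∈ Rel, ¬ B ≤ o2 R) (hRT : ∀ B ∈ Rel, B ≤ T)
    (hV2 : ∀ g ∈ normalizer (zl (S : Subgroup G) P : Set G), g ∈ centralizer (D : Set G) →
      ∀ v ∈ zl (S : Subgroup G) P, g * v * g⁻¹ * v⁻¹ ∈ D) :
    ∃ e ∈ Mod D R y₀, ∃ q ∈ o2 P ⊓ o2 R, q * e ≠ e * q := by
  by_contra hcon
  push Not at hcon
  set M := Mod D R y₀ with hM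
  have htwo : ∀ c : F, c = 0 ∨ c = 1 := fun c => by
    by_cases hc : c = 0
    · exact Or.inl hc
    · exact Or.inr (f.out_two o hwV hi hE hRT hV2 c hc)
  have hRM : ∀ r ∈ R, ∀ e ∈ M, r * e * r⁻¹ ∈ M := fun r hr e he => f.Mod_norm hr he
  have hMW : M ≤ U := f.Mod_U (f.VU hwV)
  obtain ⟨u, huM, hu⟩ := o.surj ![0, 1]
  have huW := hMW huM
  have huV : u ∉ zl (S : Subgroup G) P := fun h0 => by
    have := (o.line u huM).1 h0
    rw [hu] at this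
    exact one_ne_zero this
  have hsq : ∀ v ∈ M, v * v = 1 := fun v hv => f.hU.sq (hMW hv)
  have hchar : (1 : F) + 1 = 0 := by
    have h1 := o.mul u huM u huM
    rw [hsq u huM, (o.ker 1 (one_mem _)).2 (one_mem _), hu] at h1
    have h2 := congrFun h1 1
    simpa using h2.symm
  -- `Q` acts trivially on the line
  have hQl : ∀ q ∈ o2 P, ∀ v ∈ M, v ∈ zl (S : Subgroup G) P → q * v * q⁻¹ = v := fun q hq v _ hv => by
    rw [f.h.VcQ hq hv, mul_inv_cancel_right]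
  have hQR : o2 P ≤ R := f.QT.trans f.TR
  -- `[q, u]` in the line
  have hqu : ∀ q ∈ o2 P, o.e (q * u * q⁻¹) 1 = 1 := by
    intro q hq
    rcases htwo (o.e (q * u * q⁻¹) 1) with h1 | h1
    · exfalso
      apply huV
      have h2 := (o.line _ (hRM q (hQR hq) u huM)).2 h1
      have h3 := hQl q⁻¹ (inv_mem hq) _ (hRM q (hQR hq) u huM) h2
      have e1 : q⁻¹ * (q * u * q⁻¹) * q⁻¹⁻¹ = u := by group
      rw [e1] at h3
      rw [h3]
      exact h2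
    · exact h1
  have hinO : ∀ q ∈ o2 P, o.e (q * u * q⁻¹) = o.e u → q * u * q⁻¹ = u := by
    intro q hq h1
    have h2 : q ∈ o2 R := by
      refine f.mem_O (M := M) hRM (mem_Mod _ _ _) hwV hi (f.QT hq) fun e he => ?_
      -- every element of `M` is `v` or `u v` with `v` in the line
      have h3 : o.e (q * e * q⁻¹) = o.e e := by
        rcases htwo (o.e e 1) with h4 | h4
        · rw [hQl q hq e he ((o.line e he).2 h4)]
        · have h5 : u⁻¹ * e ∈ M := mul_mem (inv_mem huM) he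
          have hui : u⁻¹ = u := inv_eq_of_mul_eq_one_left (hsq u huM)
          have h6 : u⁻¹ * e ∈ zl (S : Subgroup G) P := by
            refine (o.line _ h5).2 ?_
            rw [hui, o.mul u huM e he, hu, Pi.add_apply, h4]
            exact hchar
          have h7 := hQl q hq _ h5 h6
          have e1 : q * e * q⁻¹ = (q * u * q⁻¹) * (q * (u⁻¹ * e) * q⁻¹) := by group
          rw [e1, h7, o.mul _ (hRM q (hQR hq) u huM) _ h5, h1, ← o.mul u huM _ h5, mul_inv_cancel_left]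
      have h4 := f.out_eq o he (hRM q (hQR hq) e he) h3.symm
      have h5 : q * e * q⁻¹ * e⁻¹ = e⁻¹ * (q * e * q⁻¹) :=
        f.hU.comm (hMW (hRM q (hQR hq) e he)) (inv_mem (hMW he))
      rw [h5]
      exact h4
    rw [hcon u huM q ⟨hq, h2⟩, mul_inv_cancel_right]
  have hcas : ∀ q ∈ o2 P, o.e (q * u * q⁻¹) = o.e u ∨ o.e (q * u * q⁻¹) = ![1, 1] := by
    intro q hq
    rcases htwo (o.e (q * u * q⁻¹) 0) with h1 | h1
    · left; exact ext2 (by rw [h1, hu]; rfl) (by rw [hqu q hq, hu]; rfl)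
    · right; exact ext2 (by rw [h1]; rfl) (by rw [hqu q hq]; rfl)
  apply huV
  by_cases hall : ∀ q ∈ o2 P, q * u * q⁻¹ = u
  · exact SN2.Exact.lemQ f.h (v := 1) (f.hU.le_Q f.h huW) (hsq u huM) fun q hq => Or.inl (hall q hq)
  push Not at hall
  obtain ⟨q₀, hq₀, hq₀u⟩ := hall
  have h0 := (hcas q₀ hq₀).resolve_left fun h1 => hq₀u (hinO q₀ hq₀ h1)
  refine SN2.Exact.lemQ f.h (v := q₀ * u * q₀⁻¹ * u⁻¹) (f.hU.le_Q f.h huW) (hsq u huM) fun q hq => ?_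
  rcases hcas q hq with h1 | h1
  · exact Or.inl (hinO q hq h1)
  · right
    rw [inv_mul_cancel_right]
    -- `q₀⁻¹ q` fixes `u` modulo `D`
    have hq1 := mul_mem (inv_mem hq₀) hq
    have h2 : o.e ((q₀⁻¹ * q) * u * (q₀⁻¹ * q)⁻¹) = o.e u := by
      have h3 := f.out_eq o (hRM q₀ (hQR hq₀) u huM) (hRM q (hQR hq) u huM) (by rw [h0, h1])
      have h4 := f.conj_D (inv_mem (hQR hq₀)) h3
      have e1 : (q₀⁻¹ * q) * u * (q₀⁻¹ * q)⁻¹ =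
          u * (q₀⁻¹ * ((q₀ * u * q₀⁻¹)⁻¹ * (q * u * q⁻¹)) * q₀⁻¹⁻¹) := by group
      rw [e1, h4, o.mul u huM _ (D_le_Mod _ _ _ h3), (o.ker _ (D_le_Mod _ _ _ h3)).2 h3, add_zero]
    have h3 := hinO _ hq1 h2
    calc q * u * q⁻¹ = q₀ * ((q₀⁻¹ * q) * u * (q₀⁻¹ * q)⁻¹) * q₀⁻¹ := by group
      _ = q₀ * u * q₀⁻¹ := by rw [h3]

end out

/-- **(5)** -/
theorem five_out {i i' k k' : Fin (2 ^ m + 1)} (hii : i ≠ i') (hkk : k ≠ k') (hik : i ≠ k) (hik' : i ≠ k')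
    (hi'k : i' ≠ k) (hi'k' : i' ≠ k') (hx : rr ε i i' ∈ D) (hy : rr ε k k' ∈ D) (hi : zz ε i ∉ D)
    (hk : zz ε k ∉ D) {A : Subgroup G} (hA : Ex P ε i k A)
    (hV2 : ∀ g ∈ normalizer (zl (S : Subgroup G) P : Set G), g ∈ centralizer (D : Set G) →
      ∀ v ∈ zl (S : Subgroup G) P, g * v * g⁻¹ * v⁻¹ ∈ D)
    (H1 : ∀ v ∈ zl (S : Subgroup G) P, (∀ b ∈ o2 R, b * v = v * b) → v ∈ D)
    {F F' : Type} [Field F] [Finite F] [Field F'] [Finite F'] {E E' : Subgroup G} {Rel Rel' : Set (Subgroup G)}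
    (o : Out F (zl (S : Subgroup G) P) (o2 P) T R M₀ D E (Mod D R (zz ε i)) (zz ε i) Rel)
    (o' : Out F' (zl (S : Subgroup G) P) (o2 P) T R M₀ D E' (Mod D R (zz ε k)) (zz ε k) Rel')
    (hA1 : A ⊓ centralizer (zl (S : Subgroup G) P : Set G) ∈ Rel)
    (hA2 : A ⊓ centralizer (zl (S : Subgroup G) P : Set G) ∈ Rel')
    (hE : ∃ B ∈ Rel, ¬ B ≤ o2 R) (hRT : ∀ B ∈ Rel, B ≤ T) : False := by
  classical
  set A0 := A ⊓ centralizer (zl (S : Subgroup G) P : Set G) with hA0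
  have hOR : o2 R ≤ R := f.OT.trans f.TR
  -- `E₁ ∩ E₂ = D`
  have hI : Mod D R (zz ε i) ⊓ Mod D R (zz ε k) ≤ D := by
    refine f.out_inter o (zz_mem f.h.ev i) hi H1 inf_le_left (fun r hr e he => ⟨f.Mod_norm hr he.1, f.Mod_norm hr he.2⟩)
      (le_inf (D_le_Mod _ _ _) (D_le_Mod _ _ _)) fun e he b hb => ?_
    rw [← comm_iff]
    rcases f.comm_Mod (f.VU (zz_mem f.h.ev i)) hx (fun t ht => f.comm_zz hii hx ht) hb he.1 with h1 | h1
    · exact h1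
    · rcases f.comm_Mod (f.VU (zz_mem f.h.ev k)) hy (fun t ht => f.comm_zz hkk hy ht) hb he.2 with h2 | h2
      · exact h2
      · exfalso
        rw [h1] at h2
        exact NSix.CaseJ.Fus.rr_ne f.h.ev f.h.five hii hik.symm hik'.symm h2
  -- the fixed points
  have hfix : ∀ (M : Subgroup G), (∀ r ∈ R, ∀ e ∈ M, r * e * r⁻¹ ∈ M) → M ≤ U → ∃ F₁ : Subgroup G,
      ∀ e, e ∈ F₁ ↔ e ∈ M ∧ ∀ b ∈ A0, b * e * b⁻¹ * e⁻¹ ∈ D := by
    intro M hM hMW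
    have hA0R : A0 ≤ R := ((SN2.Exact.le_Q f.h hA).trans f.QT).trans f.TR
    refine ⟨{ carrier := {e | e ∈ M ∧ ∀ b ∈ A0, b * e * b⁻¹ * e⁻¹ ∈ D}
              one_mem' := ⟨one_mem _, fun b _ => by
                have : b * 1 * b⁻¹ * (1 : G)⁻¹ = 1 := by group
                rw [this]; exact one_mem _⟩
              mul_mem' := ?_
              inv_mem' := ?_ }, fun e => Iff.rfl⟩
    · rintro e e' ⟨he, h1⟩ ⟨he', h2⟩
      refine ⟨mul_mem he he', fun b hb => ?_⟩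
      rw [comm_prod (f.hU.comm (hMW he) (f.DU (h2 b hb)))]
      exact mul_mem (h1 b hb) (h2 b hb)
    · rintro e ⟨he, h1⟩
      have hei : e⁻¹ = e := inv_eq_of_mul_eq_one_left (f.hU.sq (hMW he))
      rw [hei]
      exact ⟨he, h1⟩
  obtain ⟨F₁, hF₁⟩ := hfix (Mod D R (zz ε i)) (fun r hr e he => f.Mod_norm hr he)
    (f.Mod_U (f.VU (zz_mem f.h.ev i)))
  obtain ⟨F₂, hF₂⟩ := hfix (Mod D R (zz ε k)) (fun r hr e he => f.Mod_norm hr he)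
    (f.Mod_U (f.VU (zz_mem f.h.ev k)))
  have hD : ∀ y : G, y ∈ D ↔ y ∈ Mod D R (zz ε i) ⊓ Mod D R (zz ε k) := fun y =>
    ⟨fun h1 => ⟨D_le_Mod _ _ _ h1, D_le_Mod _ _ _ h1⟩, fun h1 => hI h1⟩
  refine f.five hii hkk hik hik' hi'k hi'k' hx hy hi hk hA H1 (F₁ := F₁) (F₂ := F₂) (κ := (o2 R).relIndex A0)
    ?_ ?_ relIndex_mul (f.out_index o hA1 hF₁) (f.out_index o' hA2 hF₂) (f.out_move o (zz_mem f.h.ev i) hi hE hRT hV2)
  · intro e
    rw [hF₁]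
    exact ⟨fun h1 => ⟨h1.1, fun b hb => (hD _).1 (h1.2 b hb)⟩, fun h1 => ⟨h1.1, fun b hb => (hD _).2 (h1.2 b hb)⟩⟩
  · intro e
    rw [hF₂]
    exact ⟨fun h1 => ⟨h1.1, fun b hb => (hD _).1 (h1.2 b hb)⟩, fun h1 => ⟨h1.1, fun b hb => (hD _).2 (h1.2 b hb)⟩⟩

end Fr

end Cfsg.Agent.Omega.NO3S.SN.TwoQ
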