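import Cfsg.Agent.Omega.NO3S.SN.TwoQ.Zed
import Cfsg.Agent.Omega.NO3S.SN.TwoP.End

/-!
# THEOREM TWO PAIRS (helper586 #20800), without `d ≥ 2` (helper82), for every odd `n = 2^m + 1 ≥ 5`

* **`cz_le`** : `C_G(Ω₁(Z(J(S)))) ≤ M₀`;

* `Fr.pairs` : two pairs `{i, i'}`, `{k, k'}` in `D`, `z_i, z_k ∉ D`: contradiction;
* `Fr.pair_of` : the pair of a letter;
* **`Fr.two_pairs`** : if `[V, C_L(D)] ≤ D` and `C_G({v ∈ V | v_i = v_j}) ≤ M₀` for all `i ≠ j`: contradiction;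
* `V2_of_zj` : `Ω₁(Z(J(S))) ≤ D` implies `[V, C_L(D)] ≤ D`; **`Fr.two_pairs_zj`**.
-/

set_option autoImplicit false
set_option linter.unusedSectionVars false

namespace Cfsg.Agent.Omega.NO3S.SN.TwoQ

open Subgroup Cfsg Cfsg.Agent.PLocal.ThompsonJ Cfsg.Agent.ZN Cfsg.Agent.ZN.ChoiceBase
open Cfsg.Agent.ZN.ChoiceSit Cfsg.Agent.PLocal.ElemAbSup
open Cfsg.Agent.Omega.MinPar
open Cfsg.Agent.Omega.S5.Def Cfsg.Agent.Omega.S5.Syl Cfsg.Agent.Omega.S5.Pair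
open Cfsg.Agent.Omega.NSix.Base Cfsg.Agent.Omega.NSix.Basic
open Cfsg.Agent.Omega.NSix.CaseJ.Base Cfsg.Agent.Omega.NSix.CaseJ.Exact
open Cfsg.Agent.Omega.NSix.CaseJ.LemQ
open Cfsg.Agent.Omega.NO3S.SN.TwoP (zero_ne_last card_le_AA side_norm sylQ two_cosets Q_le_cz cz_of_acts jjQ_conj
  oddGen_sup Mod D_le_Mod conj_mem_Mod mem_Mod Mod_le Mod_conj qf qf_mul qf_eq_zero comm_prod comm_iff count2 split2 relIndex_mul_card' relIndex_mul OutS Mh_eq norm_of noOver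
  comp_eq mem_of_supp V2_of_zj outS)
open Cfsg.Agent.Omega.SQ1.Bau (elem_comm)

universe u

variable {G : Type u} [Group G] [Finite G] {S : Sylow 2 G} {P : Subgroup G} {m : ℕ}
  {ε : (Fin (2 ^ m + 1) → ZMod 2) → G} {U : Subgroup G}

namespace Fr

variable {M₀ D T R : Subgroup G} (f : Fr S P ε U M₀ D T R)
include f

/-- the fixed points of `A₀` on `M / I` -/
theorem exists_fixed {A₀ M I : Subgroup G} (hA : A₀ ≤ R) (hMW : M ≤ U) :
    ∃ F₁ : Subgroup G, ∀ e, e ∈ F₁ ↔ e ∈ M ∧ ∀ b ∈ A₀, b * e * b⁻¹ * e⁻¹ ∈ I := by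
  refine ⟨{ carrier := {e | e ∈ M ∧ ∀ b ∈ A₀, b * e * b⁻¹ * e⁻¹ ∈ I}
            one_mem' := ⟨one_mem _, fun b _ => by
              have : b * 1 * b⁻¹ * (1 : G)⁻¹ = 1 := by group
              rw [this]; exact one_mem _⟩
            mul_mem' := ?_
            inv_mem' := ?_ }, fun e => Iff.rfl⟩
  · rintro e e' ⟨he, h1⟩ ⟨he', h2⟩
    refine ⟨mul_mem he he', fun b hb => ?_⟩
    have h3 : b * e' * b⁻¹ * e'⁻¹ ∈ U := mul_mem (f.hU.conj (f.R_cz (hA hb)) (hMW he')) (inv_mem (hMW he'))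
    rw [comm_prod (f.hU.comm (hMW he) h3)]
    exact mul_mem (h1 b hb) (h2 b hb)
  · rintro e ⟨he, h1⟩
    have hei : e⁻¹ = e := inv_eq_of_mul_eq_one_left (f.hU.sq (hMW he))
    rw [hei]
    exact ⟨he, h1⟩

theorem pairs
    (hV2 : ∀ g ∈ normalizer (zl (S : Subgroup G) P : Set G), g ∈ centralizer (D : Set G) →
      ∀ v ∈ zl (S : Subgroup G) P, g * v * g⁻¹ * v⁻¹ ∈ D) {i i' k k' : Fin (2 ^ m + 1)} (hii : i ≠ i')
    (hkk : k ≠ k') (hik : i ≠ k) (hik' : i ≠ k') (hi'k : i' ≠ k) (hi'k' : i' ≠ k') (hx : rr ε i i' ∈ D)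
    (hy : rr ε k k' ∈ D) (hi : zz ε i ∉ D) (hk : zz ε k ∉ D) : False := by
  obtain ⟨A, hA⟩ := exists_ex f.h hik
  set A0 := A ⊓ centralizer (zl (S : Subgroup G) P : Set G) with hA0
  have hA0Q : A0 ≤ o2 P := SN2.Exact.le_Q f.h hA
  have hA0T : A0 ≤ T := hA0Q.trans f.QT
  have hA0R : A0 ≤ R := hA0T.trans f.TR
  set E₁ := Mod D R (zz ε i) with hE₁
  set E₂ := Mod D R (zz ε k) with hE₂
  have hE1W : E₁ ≤ U := f.Mod_U (f.VU (zz_mem f.h.ev i))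
  have hE2W : E₂ ≤ U := f.Mod_U (f.VU (zz_mem f.h.ev k))
  set I := E₁ ⊓ E₂ with hI
  have hIR : ∀ r ∈ R, ∀ e ∈ I, r * e * r⁻¹ ∈ I := fun r hr e he => ⟨f.Mod_norm hr he.1, f.Mod_norm hr he.2⟩
  have hDI : D ≤ I := le_inf (D_le_Mod _ _ _) (D_le_Mod _ _ _)
  have hIO : ∀ e ∈ I, ∀ b ∈ o2 R, b * e = e * b := by
    intro e he b hb
    rw [← comm_iff]
    rcases f.comm_Mod (f.VU (zz_mem f.h.ev i)) hx (fun t ht => f.comm_zz hii hx ht) hb he.1 with h1 | h1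
    · exact h1
    · rcases f.comm_Mod (f.VU (zz_mem f.h.ev k)) hy (fun t ht => f.comm_zz hkk hy ht) hb he.2 with h2 | h2
      · exact h2
      · exfalso
        rw [h1] at h2
        exact NSix.CaseJ.Fus.rr_ne f.h.ev f.h.five hii hik.symm hik'.symm h2
  obtain ⟨F₁, hF₁⟩ := f.exists_fixed hA0R hE1W
  obtain ⟨F₂, hF₂⟩ := f.exists_fixed hA0R hE2W
  -- no over-offender
  have key : ∀ {j j' : Fin (2 ^ m + 1)} {F₀ : Subgroup G}, j ≠ j' → rr ε j j' ∈ D → zz ε j ∉ D →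
      I ≤ Mod D R (zz ε j) → (∀ e, e ∈ F₀ ↔ e ∈ Mod D R (zz ε j) ∧ ∀ b ∈ A0, b * e * b⁻¹ * e⁻¹ ∈ I) →
      (o2 R).relIndex A0 * Nat.card F₀ ≤ Nat.card (Mod D R (zz ε j)) := by
    intro j j' F₀ hjj hj hjD hle hF₀
    have hMW : Mod D R (zz ε j) ≤ U := f.Mod_U (f.VU (zz_mem f.h.ev j))
    have hT : ∀ t ∈ T, t * zz ε j * t⁻¹ * (zz ε j)⁻¹ ∈ I := by
      intro t ht
      apply hDI
      rcases f.comm_zz hjj hj ht with h1 | h1 <;> rw [h1]
      · exact one_mem _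
      · exact hj
    have hR := f.three (outS G) hV2 hjj hj hjD hIO
    refine noOver f.sylR f.isMinPar hle (fun v hv w hw => f.hU.comm (hMW hv) (hMW hw)) (fun v hv => f.hU.sq (hMW hv))
      hIR (fun r hr e he => f.Mod_norm hr he) (mem_Mod _ _ _) hT hR (fun K hK1 hK2 => Mod_le (hDI.trans hK1) hK2) hA0R
      (fun a ha b hb => elem_comm hA.elem a ha.1 b hb.1) (fun a ha => hA.sq ha.1) (fun a ha hc => ?_) hF₀
    exact f.mem_O' (fun r hr e he => f.Mod_norm hr he) hIR (mem_Mod _ _ _) hT hR (hA0T ha) hc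
  exact f.five hii hkk hik hik' hi'k hi'k' hx hy hi hk hA (fun v hv hc => f.mem_of_O (outS G) hV2 hv hc) hF₁ hF₂
    relIndex_mul (key hii hx hi inf_le_left hF₁) (key hkk hy hk inf_le_right hF₂) (f.mv (outS G) hV2 hii hx hi)

/-- the pair of a letter -/
theorem pair_of
    (hV2 : ∀ g ∈ normalizer (zl (S : Subgroup G) P : Set G), g ∈ centralizer (D : Set G) →
      ∀ v ∈ zl (S : Subgroup G) P, g * v * g⁻¹ * v⁻¹ ∈ D) {i : Fin (2 ^ m + 1)} (hi : zz ε i ∉ D) :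
    ∃ i', i ≠ i' ∧ rr ε i i' ∈ D ∧ ∀ x, ε x ∈ D → x i = x i' := by
  have h1 : ∃ b ∈ o2 R, b * zz ε i ≠ zz ε i * b := by
    by_contra hcon
    push Not at hcon
    exact hi (f.mem_of_O (outS G) hV2 (zz_mem f.h.ev i) hcon)
  obtain ⟨b, hb, hbi⟩ := h1
  have hbT := f.OT hb
  obtain ⟨σ, hσ⟩ := f.acts_of (f.T_le hbT)
  have h2 : σ i ≠ i := by
    intro h0
    apply hbi
    have h3 := zz_conj hσ i
    rw [h0] at h3
    exact comm_of_conj h3
  have h3 : rr ε i (σ i) ∈ D := by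
    have h4 := hV2 b (f.T_le hbT) (f.syl.1 hbT) _ (zz_mem f.h.ev i)
    rw [zz_conj hσ i, zz_inv f.h.ev] at h4
    have h5 : rr ε i (σ i) = zz ε (σ i) * zz ε i := (zz_comm f.h.ev _ _)
    rw [h5]
    exact h4
  refine ⟨σ i, h2.symm, h3, fun x hx => ?_⟩
  have h4 : b * ε x * b⁻¹ = ε x := f.conj_D (f.OR hb) hx
  have h5 : x ∘ σ.symm = x := comp_eq f.h (by rw [← hσ x, h4])
  have h6 := congrFun h5 (σ i)
  rw [Function.comp_apply, Equiv.symm_apply_apply] at h6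
  exact h6

/-- **THEOREM TWO PAIRS** -/
theorem two_pairs
    (hV2 : ∀ g ∈ normalizer (zl (S : Subgroup G) P : Set G), g ∈ centralizer (D : Set G) →
      ∀ v ∈ zl (S : Subgroup G) P, g * v * g⁻¹ * v⁻¹ ∈ D)
    (hX : ∀ i j : Fin (2 ^ m + 1), i ≠ j → i ≠ 0 → j ≠ 0 →
      centralizer {g : G | ∃ x : Fin (2 ^ m + 1) → ZMod 2, x i = x j ∧ g = ε x} ≤ M₀) : False := by
  classical
  -- a first letter
  obtain ⟨i, hi⟩ : ∃ i, zz ε i ∉ D := by
    by_contra hcon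
    push Not at hcon
    have h1 : zl (S : Subgroup G) P ≤ D :=
      V_le_of_rr f.h.ev (by have := f.h.hm; omega) fun i => mul_mem (hcon i) (hcon 0)
    have h2 : R ≤ centralizer (zl (S : Subgroup G) P : Set G) :=
      f.RC.trans (centralizer_le (SetLike.coe_subset_coe.2 h1))
    exact f.not_le (h2.trans (centralizer_le_normalizer _))
  obtain ⟨i', hii, hx, hDi⟩ := f.pair_of hV2 hi
  obtain ⟨hi0, hi'0⟩ := f.nz hx hi
  -- a second letter
  obtain ⟨k, hki, hki', hk⟩ : ∃ k, k ≠ i ∧ k ≠ i' ∧ zz ε k ∉ D := by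
    by_contra hcon
    push Not at hcon
    apply f.nR
    refine (f.RC.trans (centralizer_le ?_)).trans (hX i i' hii hi0 hi'0)
    rintro _ ⟨x, hxi, rfl⟩
    have h1 : ε (x + (Pi.single i (x i) + Pi.single i' (x i))) ∈ D := by
      refine mem_of_supp f.h.ev (s := Finset.univ \ {i, i'}) (fun k hk => ?_) _ fun k hk => ?_
      · simp only [Finset.mem_sdiff, Finset.mem_univ, true_and, Finset.mem_insert, Finset.mem_singleton,
          not_or] at hk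
        exact hcon k hk.1 hk.2
      · simp only [Finset.mem_sdiff, Finset.mem_univ, true_and, Finset.mem_insert, Finset.mem_singleton,
          not_not] at hk
        simp only [Pi.add_apply]
        rcases hk with rfl | rfl
        · rw [Pi.single_eq_same, Pi.single_eq_of_ne hii, add_zero]
          exact CharTwo.add_self_eq_zero _
        · rw [Pi.single_eq_same, Pi.single_eq_of_ne hii.symm, zero_add, hxi]
          exact CharTwo.add_self_eq_zero _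
    have h2 : ε (Pi.single i (x i) + Pi.single i' (x i)) ∈ D := by
      rcases (show x i = 0 ∨ x i = 1 from by
        generalize x i = c
        revert c
        decide) with h3 | h3
      · rw [h3, Pi.single_zero, Pi.single_zero, add_zero, f.h.ev.zero]
        exact one_mem _
      · rw [h3, ← rr_eq f.h.ev]
        exact hx
    rw [f.h.ev.add] at h1
    have h3 := D.mul_mem h1 (D.inv_mem h2)
    rwa [mul_inv_cancel_right] at h3
  obtain ⟨k', hkk, hy, -⟩ := f.pair_of hV2 hk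
  have hik' : i ≠ k' := by
    rintro rfl
    rw [rr_eq f.h.ev] at hy
    have h1 := hDi _ hy
    simp only [Pi.add_apply] at h1
    rw [Pi.single_eq_same, Pi.single_eq_of_ne hki.symm, Pi.single_eq_of_ne hki'.symm, Pi.single_eq_of_ne hii.symm,
      zero_add, zero_add] at h1
    exact one_ne_zero h1
  have hi'k' : i' ≠ k' := by
    rintro rfl
    rw [rr_eq f.h.ev] at hy
    have h1 := hDi _ hy
    simp only [Pi.add_apply] at h1
    rw [Pi.single_eq_same, Pi.single_eq_of_ne hki.symm, Pi.single_eq_of_ne hki'.symm, Pi.single_eq_of_ne hii,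
      zero_add, zero_add] at h1
    exact zero_ne_one h1
  exact f.pairs hV2 hii hkk hki.symm hik' hki'.symm hi'k' hx hy hi hk

/-- **THEOREM TWO PAIRS**, `Ω₁(Z(J(S))) ≤ D`. -/
theorem two_pairs_zj (hzj : zj (S : Subgroup G) ≤ D)
    (hX : ∀ i j : Fin (2 ^ m + 1), i ≠ j → i ≠ 0 → j ≠ 0 →
      centralizer {g : G | ∃ x : Fin (2 ^ m + 1) → ZMod 2, x i = x j ∧ g = ε x} ≤ M₀) : False :=
  f.two_pairs (V2_of_zj f.h hzj f.D_le) hX

end Fr

theorem exists_D (h : NSix.CaseJ.Base.Hyp S P ε) {M₀ : Subgroup G}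
    (hn : ¬ centralizer (zj (S : Subgroup G) : Set G) ≤ M₀) : ∃ D : Subgroup G, zj (S : Subgroup G) ≤ D ∧
      D ≤ zl (S : Subgroup G) P ∧ ¬ centralizer (D : Set G) ≤ M₀ ∧
      ∀ E : Subgroup G, D < E → E ≤ zl (S : Subgroup G) P → centralizer (E : Set G) ≤ M₀ := by
  have h1 : zj (S : Subgroup G) ≤ zl (S : Subgroup G) P := NSix.CaseJ.LemQ.zj_le h
  obtain ⟨Z, hZ⟩ : ∃ Z, Z = zj (S : Subgroup G) := ⟨_, rfl⟩
  obtain ⟨V, hV⟩ : ∃ V, V = zl (S : Subgroup G) P := ⟨_, rfl⟩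
  rw [← hZ] at hn h1 ⊢
  rw [← hV] at h1 ⊢
  obtain ⟨D, hD, hmax⟩ := Set.Finite.exists_maximal
    (s := {D : Subgroup G | Z ≤ D ∧ D ≤ V ∧ ¬ centralizer (D : Set G) ≤ M₀})
    (Set.toFinite _) ⟨Z, le_rfl, h1, hn⟩
  refine ⟨D, hD.1, hD.2.1, hD.2.2, fun E hDE hEV => ?_⟩
  by_contra hcon
  exact hDE.not_ge (hmax ⟨hD.1.trans hDE.le, hEV, hcon⟩ hDE.le)

theorem z_mem_zj (h : NSix.CaseJ.Base.Hyp S P ε) : zz ε 0 ∈ zj (S : Subgroup G) := by
  have hm1 : 1 ≤ m := le_trans (by norm_num) h.hm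
  have hzc : zz ε 0 ∈ zc (S : Subgroup G) :=
    (NSix.JNot.zc_iff h.hG hm1 h.hP h.ev h.fix0).2 (Or.inr rfl)
  exact (mem_zj_iff h).2 ⟨zz_mem h.ev 0, fun j hj => (MinSimple.VModule.mem_zc.1 hzc).2.1 j (ChoiceBase.jj_le _ hj)⟩

/-- **THEOREM TWO PAIRS, `n ≥ 5`.**  `M₀` any subgroup with `N_G(V) ∩ C_G(z) ≤ M₀` and
`C_G({v ∈ V | v_i = v_j}) ≤ M₀` for all `i ≠ j` (`≠ 0`): `C_G(Ω₁(Z(J(S)))) ≤ M₀`. -/
theorem cz_le (h : NSix.CaseJ.Base.Hyp S P ε) (hU : HypU S P ε U) {M₀ : Subgroup G}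
    (hL : normalizer (zl (S : Subgroup G) P : Set G) ⊓ centralizer ({zz ε 0} : Set G) ≤ M₀)
    (hX : ∀ i j : Fin (2 ^ m + 1), i ≠ j → i ≠ 0 → j ≠ 0 →
      centralizer {g : G | ∃ x : Fin (2 ^ m + 1) → ZMod 2, x i = x j ∧ g = ε x} ≤ M₀) :
    centralizer (zj (S : Subgroup G) : Set G) ≤ M₀ := by
  by_contra hn
  obtain ⟨D, hD1, hD2, hD3, hmax⟩ := exists_D h hn
  obtain ⟨T, R, f⟩ := Fr.exists_of h hU hL hD2 (hD1 (z_mem_zj h)) hmax hD3
  exact f.two_pairs_zj hD1 hX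

end Cfsg.Agent.Omega.NO3S.SN.TwoQ
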