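import Cfsg.Agent.Omega.NO3S.SN.TwoQ.Frame
import Cfsg.Agent.Omega.NO3S.SN.TwoP.Mod

/-!
# THEOREM SN, K-free part, case `J(S) ≰ O₂(P)`: the `R`-modules `D ⟨w ^ R⟩`

* `Mod D R w` : `D ⟨w ^ R⟩`;
* `Fr.comm_Mod` : `[w, T] ⊆ {1, x}`, `x ∈ D`: `[D ⟨w ^ R⟩, O₂(R)] ⊆ {1, x}`;
* `Fr.mem_O` : `b ∈ T`, `[M, b] ≤ D`, `M` an `R`-invariant subgroup with `V ∩ M ≰ D`: `b ∈ O₂(R)`;
* `Fr.perm_T` : `rr i i' ∈ D`: `T` preserves `{i, i'}`.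
-/

set_option autoImplicit false
set_option linter.unusedSectionVars false

namespace Cfsg.Agent.Omega.NO3S.SN.TwoQ

open Subgroup Cfsg Cfsg.Agent.PLocal.ThompsonJ Cfsg.Agent.ZN Cfsg.Agent.ZN.ChoiceBase
open Cfsg.Agent.ZN.ChoiceSit Cfsg.Agent.PLocal.ElemAbSup
open Cfsg.Agent.Omega.MinPar
open Cfsg.Agent.Omega.S5.Def Cfsg.Agent.Omega.S5.Syl Cfsg.Agent.Omega.S5.Pair
open Cfsg.Agent.Omega.NSix.Base Cfsg.Agent.Omega.NSix.Basic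
open Cfsg.Agent.Omega.NSix.CaseJ.Base Cfsg.Agent.Omega.NSix.CaseJ.Exact
open Cfsg.Agent.Omega.NSix.CaseJ.LemQ
open Cfsg.Agent.Omega.NO3S.SN.TwoP (zero_ne_last card_le_AA side_norm sylQ two_cosets Q_le_cz cz_of_acts jjQ_conj
  oddGen_sup Mod D_le_Mod conj_mem_Mod mem_Mod Mod_le Mod_conj)

universe u

variable {G : Type u} [Group G]

variable [Finite G] {S : Sylow 2 G} {P : Subgroup G} {m : ℕ} {ε : (Fin (2 ^ m + 1) → ZMod 2) → G}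
  {U : Subgroup G}

namespace Fr

variable {M₀ D T R : Subgroup G} (f : Fr S P ε U M₀ D T R)
include f

theorem conj_D {r d : G} (hr : r ∈ R) (hd : d ∈ D) : r * d * r⁻¹ = d := TwoP.conj_D f.RC hr hd

theorem Mod_norm {w r e : G} (hr : r ∈ R) (he : e ∈ Mod D R w) : r * e * r⁻¹ ∈ Mod D R w :=
  Mod_conj (fun _ hr _ hd => by rw [f.conj_D hr hd]; exact hd) hr he

theorem VU : zl (S : Subgroup G) P ≤ U := f.hU.VU

theorem DU : D ≤ U := f.D_le.trans f.VU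

theorem Mod_U {w : G} (hw : w ∈ U) : Mod D R w ≤ U :=
  Mod_le f.DU fun _ hr => f.hU.conj (f.R_cz hr) hw

theorem UT : U ≤ T := (f.hU.le_Q f.h).trans f.QT

/-- the commutators with `O₂(R)` -/
theorem comm_Mod {w x : G} (hw : w ∈ U) (hx : x ∈ D) (hc : ∀ t ∈ T, t * w * t⁻¹ * w⁻¹ = 1 ∨ t * w * t⁻¹ * w⁻¹ = x)
    {b e : G} (hb : b ∈ o2 R) (he : e ∈ Mod D R w) : b * e * b⁻¹ * e⁻¹ = 1 ∨ b * e * b⁻¹ * e⁻¹ = x := by
  have hxx : x * x = 1 := f.hU.sq (f.DU hx)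
  have hOR : o2 R ≤ R := f.OT.trans f.TR
  let K : Subgroup G :=
    { carrier := {e | e ∈ U ∧ ∀ b ∈ o2 R, b * e * b⁻¹ * e⁻¹ = 1 ∨ b * e * b⁻¹ * e⁻¹ = x}
      one_mem' := ⟨one_mem _, fun b _ => Or.inl (by group)⟩
      mul_mem' := by
        rintro e e' ⟨he, h2⟩ ⟨he', h3⟩
        refine ⟨mul_mem he he', fun b hb => ?_⟩
        have h4 : b * e' * b⁻¹ * e'⁻¹ ∈ U :=
          mul_mem (f.hU.conj (f.R_cz (hOR hb)) he') (inv_mem he')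
        have h5 : b * (e * e') * b⁻¹ * (e * e')⁻¹ = (b * e * b⁻¹ * e⁻¹) * (b * e' * b⁻¹ * e'⁻¹) := by
          have h6 : b * (e * e') * b⁻¹ * (e * e')⁻¹ = b * e * b⁻¹ * ((b * e' * b⁻¹ * e'⁻¹) * e⁻¹) := by group
          rw [h6, f.hU.comm h4 (inv_mem he)]
          group
        rw [h5]
        rcases h2 b hb with h6 | h6 <;> rcases h3 b hb with h7 | h7 <;> rw [h6, h7]
        · left; rw [one_mul]
        · right; rw [one_mul]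
        · right; rw [mul_one]
        · left; exact hxx
      inv_mem' := by
        rintro e ⟨he, h2⟩
        refine ⟨inv_mem he, fun b hb => ?_⟩
        have hei : e⁻¹ = e := inv_eq_of_mul_eq_one_left (f.hU.sq he)
        rw [hei]
        exact h2 b hb }
  have h1 : Mod D R w ≤ K := by
    refine Mod_le (fun d hd => ⟨f.DU hd, fun b hb => Or.inl ?_⟩) fun r hr => ?_
    · rw [f.conj_D (hOR hb) hd, mul_inv_cancel]
    · refine ⟨f.hU.conj (f.R_cz hr) hw, fun b hb => ?_⟩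
      have hb' : r⁻¹ * b * r⁻¹⁻¹ ∈ o2 R :=
        (mem_normalizer_iff.1 (MinSimple.VModule.le_normalizer_o2 R (inv_mem hr)) b).1 hb
      have e1 : b * (r * w * r⁻¹) * b⁻¹ * (r * w * r⁻¹)⁻¹ =
          r * ((r⁻¹ * b * r⁻¹⁻¹) * w * (r⁻¹ * b * r⁻¹⁻¹)⁻¹ * w⁻¹) * r⁻¹ := by group
      rw [e1]
      rcases hc _ (f.OT hb') with h2 | h2
      · left; rw [h2]; group
      · right; rw [h2, f.conj_D hr hx]
  exact (h1 he).2 b hb

/-- An element of `T` which centralises a section `M / D` with `V ∩ M ≰ D` lies in `O₂(R)`. -/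
theorem mem_O {M : Subgroup G} (hM : ∀ r ∈ R, ∀ e ∈ M, r * e * r⁻¹ ∈ M) {w : G} (hwM : w ∈ M)
    (hw : w ∈ zl (S : Subgroup G) P) (hwD : w ∉ D) {b : G} (hb : b ∈ T)
    (hc : ∀ e ∈ M, b * e * b⁻¹ * e⁻¹ ∈ D) : b ∈ o2 R := by
  let N : Subgroup G :=
    { carrier := {r | r ∈ R ∧ ∀ e ∈ M, r * e * r⁻¹ * e⁻¹ ∈ D}
      one_mem' := ⟨one_mem _, fun e _ => by
        have : (1 : G) * e * 1⁻¹ * e⁻¹ = 1 := by group
        rw [this]; exact one_mem _⟩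
      mul_mem' := by
        rintro r s ⟨hr, h2⟩ ⟨hs, h3⟩
        refine ⟨mul_mem hr hs, fun e he => ?_⟩
        have h4 : (r * s) * e * (r * s)⁻¹ * e⁻¹ = r * (s * e * s⁻¹ * e⁻¹) * r⁻¹ * (r * e * r⁻¹ * e⁻¹) := by group
        rw [h4, f.conj_D hr (h3 e he)]
        exact mul_mem (h3 e he) (h2 e he)
      inv_mem' := by
        rintro r ⟨hr, h2⟩
        refine ⟨inv_mem hr, fun e he => ?_⟩
        have h3 : r⁻¹ * e * r⁻¹⁻¹ ∈ M := hM _ (inv_mem hr) e he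
        have h4 := h2 _ h3
        have h5 : r * (r⁻¹ * e * r⁻¹⁻¹) * r⁻¹ * (r⁻¹ * e * r⁻¹⁻¹)⁻¹ = (r⁻¹ * e * r⁻¹⁻¹ * e⁻¹)⁻¹ := by group
        rw [h5] at h4
        have := inv_mem h4
        rwa [inv_inv] at this }
  have hNR : N ≤ R := fun r hr => hr.1
  have hNn : R ≤ normalizer (N : Set G) := by
    intro r hr
    refine mem_normalizer_of_cj_le ?_
    rintro _ ⟨s, hs, rfl⟩
    change r * s * r⁻¹ ∈ N
    refine ⟨R.mul_mem (R.mul_mem hr hs.1) (R.inv_mem hr), fun e he => ?_⟩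
    have h3 : r⁻¹ * e * r⁻¹⁻¹ ∈ M := hM _ (inv_mem hr) e he
    have h4 := hs.2 _ h3
    have h5 : r * s * r⁻¹ * e * (r * s * r⁻¹)⁻¹ * e⁻¹ =
        r * (s * (r⁻¹ * e * r⁻¹⁻¹) * s⁻¹ * (r⁻¹ * e * r⁻¹⁻¹)⁻¹) * r⁻¹ := by group
    rw [h5, f.conj_D hr h4]
    exact h4
  have hNM : N ≤ M₀ := fun r hr => f.mem_M₀ hr.1 hw hwD (f.D_le (hr.2 w hwM))
  exact f.of_le hNR hNn hNM ⟨hb, f.TR hb, hc⟩

/-- `N_G(V)` acts on `V` by permutations. -/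
theorem acts_of {g : G} (hg : g ∈ normalizer (zl (S : Subgroup G) P : Set G)) :
    ∃ σ : Equiv.Perm (Fin (2 ^ m + 1)), Acts ε g σ :=
  (NSix.Norm.evenSet' f.h.hm S f.h.ev f.h.SP f.h.fix0).perm g hg

/-- `C_{N_G(V)}(D)` preserves the pairs in `D`. -/
theorem perm_of {g : G} (hg : g ∈ centralizer (D : Set G)) {σ : Equiv.Perm (Fin (2 ^ m + 1))} (hσ : Acts ε g σ)
    {i i' : Fin (2 ^ m + 1)} (hii : i ≠ i') (hi : rr ε i i' ∈ D) : σ i = i ∨ σ i = i' :=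
  NSix.CaseJ.Fus.pair_of_cent f.h hii hσ (mem_centralizer_iff.1 hg _ hi).symm

/-- `[zz i, t] ∈ {1, rr i i'}` for `t ∈ T`. -/
theorem comm_zz {i i' : Fin (2 ^ m + 1)} (hii : i ≠ i') (hi : rr ε i i' ∈ D) {t : G} (ht : t ∈ T) :
    t * zz ε i * t⁻¹ * (zz ε i)⁻¹ = 1 ∨ t * zz ε i * t⁻¹ * (zz ε i)⁻¹ = rr ε i i' := by
  obtain ⟨σ, hσ⟩ := f.acts_of (f.T_le ht)
  have h1 := zz_conj hσ i
  rw [h1, zz_inv f.h.ev]
  rcases f.perm_of (f.syl.1 ht) hσ hii hi with h2 | h2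
  · left; rw [h2, zz_sq f.h.ev]
  · right; rw [h2]; exact zz_comm f.h.ev _ _

end Fr

end Cfsg.Agent.Omega.NO3S.SN.TwoQ
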