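import Cfsg.Agent.Omega.NO3S.SN.TwoQ.Mod
import Cfsg.Agent.Omega.NO3S.SN2.StepAA

/-!
# TWO PAIRS, `n ≥ 5`: the step with `Rel = A(O₂(P))` (copy of helper78's `SN2/StepAA.lean`)

Over the relative frame `Fr S P ε U M₀ D T R`: `h ∈ V ∖ D`, `[h, T] ≤ D`, `[h, O₂(R)] ≤ E ≤ D`, `M = Mh R h D`, and
`B ∩ O₂(R)` centralises `M` for all `B ∈ A(O₂(P))`.

* `mem_YY_of_AA` : an involution of `O₂(P)` which is centralised by all `B ∈ A(O₂(P))` is in `YY`;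
* `rel`, `ex`, `lemY'`, **`stpAA`** : the structure `FF.Stp` (helper421) with `Rel = A(O₂(P))`.
-/

set_option autoImplicit false
set_option linter.unusedSectionVars false

namespace Cfsg.Agent.Omega.NO3S.SN.TwoQ

open Subgroup Cfsg Cfsg.Agent.PLocal.ThompsonJ Cfsg.Agent.ZN Cfsg.Agent.ZN.ChoiceBase
open Cfsg.Agent.ZN.ChoiceSit Cfsg.Agent.PLocal.ElemAbSup
open Cfsg.Agent.Omega.MinPar
open Cfsg.Agent.Omega.S5.Def Cfsg.Agent.Omega.S5.Syl Cfsg.Agent.Omega.S5.Pair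
open Cfsg.Agent.Omega.NSix.Base Cfsg.Agent.Omega.NSix.Basic
open Cfsg.Agent.Omega.SQ1.Bau (mem_AA_of_comm elem_comm elem_sq mem_sup_comm card_sup_comm)
open Cfsg.Agent.Omega.NSix.CaseJ.Exact (Ex exists_ex mem_zp sup_elem count)
open Cfsg.Agent.Omega.NO3S.SN.TwoP (card_le_AA)
open Cfsg.Agent.Omega.NO3S.SN2.LemY
open Cfsg.Agent.Omega.NO3S.SN2.StepAB (Mh Mh_le mem_Mh h_mem D_le_Mh relIndex_le)
open Cfsg.Agent.Omega.NO3S.SN2.StepAA (mem_YY_of_AA)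

universe u

variable {G : Type u} [Group G] [Finite G] {S : Sylow 2 G} {P : Subgroup G} {m : ℕ}
  {ε : (Fin (2 ^ m + 1) → ZMod 2) → G} {U : Subgroup G}

section

variable {M₀ D T R : Subgroup G} (f : Fr S P ε U M₀ D T R)
include f

theorem Dc {d g : G} (hd : d ∈ D) (hg : g ∈ R) : g * d = d * g :=
  (mem_centralizer_iff.1 (f.RC hg) d hd).symm

theorem D_conj {d g : G} (hd : d ∈ D) (hg : g ∈ R) : g * d * g⁻¹ = d := by
  rw [Dc f hd hg, mul_inv_cancel_right]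

theorem Mh_U {h : G} (hV : h ∈ zl (S : Subgroup G) P) : Mh R h D ≤ U :=
  Mh_le (f.D_le.trans f.hU.VU) fun _ hx => f.hU.conj (f.R_cz hx) (f.hU.VU hV)

/-- `R` normalises `M`. -/
theorem Mh_conj {h g y : G} (hg : g ∈ R) (hy : y ∈ Mh R h D) : g * y * g⁻¹ ∈ Mh R h D := by
  have h1 : Mh R h D ≤ (Mh R h D).comap (MulAut.conj g).toMonoidHom := by
    refine Mh_le (fun d hd => ?_) fun x hx => ?_
    · change g * d * g⁻¹ ∈ Mh R h D
      rw [D_conj f hd hg]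
      exact D_le_Mh hd
    · change g * (x * h * x⁻¹) * g⁻¹ ∈ Mh R h D
      have e : g * (x * h * x⁻¹) * g⁻¹ = (g * x) * h * (g * x)⁻¹ := by group
      rw [e]
      exact mem_Mh (mul_mem hg hx)
  exact h1 hy

theorem Mh_norm (h : G) : R ≤ normalizer (Mh R h D : Set G) := by
  intro g hg
  rw [mem_normalizer_iff]
  refine fun z => ⟨fun hz => Mh_conj f hg hz, fun hz => ?_⟩
  have h1 := Mh_conj f (inv_mem hg) hz
  have e : g⁻¹ * (g * z * g⁻¹) * g⁻¹⁻¹ = z := by group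
  rwa [e] at h1


/-- `|M : C_M(B)| ≤ |B : B ∩ O₂(R)|`. -/
theorem rel {h : G} (hV : h ∈ zl (S : Subgroup G) P)
    (hc : ∀ B ∈ AA (o2 P), ∀ b ∈ B, b ∈ o2 R → ∀ y ∈ Mh R h D, b * y = y * b) :
    ∀ B ∈ AA (o2 P), (centralizer (B : Set G)).relIndex (Mh R h D) ≤ (o2 R).relIndex B := by
  intro B hB
  have hVW := f.hU.VU
  have hX : IsElementaryAbelian 2 (zl (S : Subgroup G) P ⊔ Mh R h D : Subgroup G) :=
    isElementaryAbelian_mono f.hU.el (sup_le hVW (Mh_U f hV))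
  have h1 := count hB.1 hX fun C hC => card_le_AA f.h hB hC
  refine relIndex_le le_sup_right ((Nat.mul_le_mul_left _ (Subgroup.card_le_of_le ?_)).trans h1)
  rintro b ⟨hb, hbO⟩
  refine ⟨hb, mem_centralizer_iff.2 fun y hy => ?_⟩
  obtain ⟨v, hv, w, hw, rfl⟩ := mem_sup_comm (fun v hv w hw => f.hU.comm (hVW hv) (Mh_U f hV hw)) hy
  have c1 : Commute b v := f.h.VcQ (hB.2.1 hb) hv
  have c2 : Commute b w := hc B hB b hb hbO w hw
  exact (c1.mul_right c2).eq.symm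

/-- Some `B ∈ A(O₂(P))` is not contained in `O₂(R)`. -/
theorem ex : ∃ B ∈ AA (o2 P), ¬ B ≤ o2 R := by
  by_contra hcon
  push Not at hcon
  apply f.nJ
  rw [jj_eq]
  exact sSup_le fun B hB => hcon B hB

/-- LEMMA Y for `M`. -/
theorem lemY' {h : G} (hV : h ∈ zl (S : Subgroup G) P) :
    ∀ u ∈ Mh R h D, (∀ B ∈ AA (o2 P), ∀ b ∈ B, b * u = u * b) →
      u ∈ zl (S : Subgroup G) P ∨ ∀ v ∈ zl (S : Subgroup G) P, ∃ q ∈ o2 P, q * u * q⁻¹ = v * u := by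
  intro u hu hc
  have huW := Mh_U f hV hu
  rcases lemY f.h (mem_YY_of_AA f.h (f.hU.le_Q f.h huW) (f.hU.sq huW) hc) with h1 | h1
  · exact Or.inl h1
  · refine Or.inr fun v hv => ?_
    obtain ⟨q, hq, -, hqu⟩ := h1 v hv
    exact ⟨q, hq, hqu⟩

/-- **The structure `FF.Stp` with `Rel = A(O₂(P))`.** -/
theorem stpAA {h : G} (hV : h ∈ zl (S : Subgroup G) P) (hD : h ∉ D) (hT : ∀ t ∈ T, t * h * t⁻¹ * h⁻¹ ∈ D)
    {E : Subgroup G} (hE : E ≤ D) (hO : ∀ t ∈ o2 R, t * h * t⁻¹ * h⁻¹ ∈ E)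
    (hc : ∀ B ∈ AA (o2 P), ∀ b ∈ B, b ∈ o2 R → ∀ y ∈ Mh R h D, b * y = y * b)
    (hna : D ≤ E → ∃ s ∈ T, ∃ t ∈ T, ∃ v ∈ zl (S : Subgroup G) P,
      s * t * s⁻¹ * t⁻¹ * v * (s * t * s⁻¹ * t⁻¹)⁻¹ * v⁻¹ ∉ D) :
    SN2.FF.Stp (zl (S : Subgroup G) P) (o2 P) T R M₀ D E (Mh R h D) h (AA (o2 P)) where
  TR := f.TR
  TM := f.T_M₀
  two := f.T2
  syl := syl_not_dvd f.sylR
  notM := f.nR
  min K hK hKR hKM := by
    by_contra hne
    exact hKM (f.min K hK (lt_of_le_of_ne hKR hne))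
  Vc v hv w hw := f.h.ev.comm_mem hv hw
  Vs v hv := f.h.ev.sq_mem hv
  Mc v hv w hw := f.hU.comm (Mh_U f hV hv) (Mh_U f hV hw)
  Ms v hv := f.hU.sq (Mh_U f hV hv)
  DV := f.D_le
  Dc d hd g hg := Dc f hd hg
  st u hu huD g hg hgu := f.mem_M₀ hg hu huD (by
    rw [hgu, mul_inv_cancel_right, mul_inv_cancel]
    exact one_mem _)
  hV := hV
  hD := hD
  hT := hT
  ED := hE
  hO := hO
  hM := h_mem
  DM := D_le_Mh
  RM := Mh_norm f h
  Mgen K hK hKx := Mh_le hK hKx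
  QT := f.QT
  QV q hq := mem_centralizer_iff.2 fun v hv => (f.h.VcQ hq hv).symm
  relQ B hB := hB.2.1
  relc B hB a ha b hb := elem_comm hB.1 a ha b hb
  rels B hB a ha := by
    have := elem_sq hB.1 a ha
    rwa [pow_two] at this
  rel := rel f hV hc
  ex := ex f
  lemY := lemY' f hV
  na := hna

end

end Cfsg.Agent.Omega.NO3S.SN.TwoQ
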